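import Groth.Prelude.Def_Magnet2
import Mathlib.AlgebraicGeometry.Pullbacks
import Mathlib.RingTheory.TensorProduct.Maps
import Mathlib.RingTheory.TensorProduct.Basic
import Mathlib.AlgebraicGeometry.Morphisms.Separated
import Mathlib.AlgebraicGeometry.Morphisms.ClosedImmersion

/-!
# `A(M) → A(N)` is epi to separated targets, after any base change
-/

set_option autoImplicit false
set_option backward.isDefEq.respectTransparency false
set_option linter.style.haveILetI false

universe u

open CategoryTheory CategoryTheory.Limits MonoidalCategory CartesianMonoidalCategory MonObj AlgebraicGeometry Opposite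

namespace Groth.Agent.MagnetAttr

/-- An injective ring map is epi to separated targets. -/
theorem eq_affine {A B : CommRingCat.{u}} (ψ : A ⟶ B) (hψ : Function.Injective ψ.hom)
    {X S : Scheme.{u}} (p : X ⟶ S) [IsSeparated p] (a b : Spec A ⟶ X) (hab : a ≫ p = b ≫ p)
    (h : Spec.map ψ ≫ a = Spec.map ψ ≫ b) : a = b := by
  let P : Over S := Over.mk p
  let Q : Over S := Over.mk (a ≫ p)
  haveI : IsSeparated P.hom := ‹IsSeparated p›
  let f : Q ⟶ P := Over.homMk a rfl
  let g : Q ⟶ P := Over.homMk b hab.symm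
  let e : (equalizer f g).left ⟶ Spec A := (equalizer.ι f g).left
  haveI : IsClosedImmersion e := isClosedImmersion_equalizer_ι_left f g
  have hea : e ≫ a = e ≫ b := congrArg CommaMorphism.left (equalizer.condition f g)
  let k : Over.mk (Spec.map ψ ≫ a ≫ p) ⟶ Q := Over.homMk (Spec.map ψ) rfl
  let l := equalizer.lift k (Over.OverMorphism.ext (show Spec.map ψ ≫ a = Spec.map ψ ≫ b from h) : k ≫ f = k ≫ g)
  have hl : l.left ≫ e = Spec.map ψ := congrArg CommaMorphism.left (equalizer.lift_ι k _)
  haveI : IsAffine (equalizer f g).left := isAffine_of_isAffineHom e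
  have hinj : Function.Injective e.appTop.hom := by
    intro x y hxy
    have hc := congrArg (fun t => l.left.appTop.hom t) hxy
    have e2 : (l.left ≫ e).appTop = (Spec.map ψ).appTop := by rw [hl]
    rw [Scheme.Hom.comp_appTop] at e2
    have e3 := fun z => congrArg (fun t : Γ(Spec A, ⊤) ⟶ Γ(Spec B, ⊤) => t.hom z) e2
    simp only [CommRingCat.hom_comp, RingHom.comp_apply] at e3
    have hc' : (Spec.map ψ).appTop.hom x = (Spec.map ψ).appTop.hom y := (e3 x).symm.trans (hc.trans (e3 y))
    have hnat := Scheme.ΓSpecIso_naturality ψ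
    have h5 : ∀ z, (Scheme.ΓSpecIso B).hom.hom ((Spec.map ψ).appTop.hom z) =
        ψ.hom ((Scheme.ΓSpecIso A).hom.hom z) := fun z =>
      congrArg (fun t : Γ(Spec A, ⊤) ⟶ B => t.hom z) hnat
    have h6 := congrArg (Scheme.ΓSpecIso B).hom.hom hc'
    rw [h5, h5] at h6
    exact (Scheme.ΓSpecIso A).commRingCatIsoToRingEquiv.injective (hψ h6)
  haveI : IsIso e := IsClosedImmersion.isIso_of_injective_of_isAffine hinj
  exact (cancel_epi e).1 hea

variable {N M : Type} [AddCommMonoid N] [AddCommMonoid M]

/-- The ring map `Z[N] → Z[M]`. -/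
noncomputable abbrev ringMap (Z : Type u) [CommRing Z] (f : N →+ M) :
    MonoidAlgebra Z (Multiplicative N) →ₐ[Z] MonoidAlgebra Z (Multiplicative M) :=
  (MonoidAlgebra.mapDomainBialgHom Z (AddMonoidHom.toMultiplicative f)).toAlgHom

theorem injective_tensor (Z : Type u) [CommRing Z] (f : N →+ M) (hf : Function.Injective f) (R : Type u) [CommRing R]
    [Algebra Z R] :
    Function.Injective (Algebra.TensorProduct.map (ringMap Z f) (AlgHom.id Z R)) := by
  let r : MonoidAlgebra Z (Multiplicative M) →ₗ[Z] MonoidAlgebra Z (Multiplicative N) :=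
    (MonoidAlgebra.coeffLinearEquiv Z).symm.toLinearMap ∘ₗ
      Finsupp.lcomapDomain (AddMonoidHom.toMultiplicative f) (fun x y h => hf h) ∘ₗ
      (MonoidAlgebra.coeffLinearEquiv Z).toLinearMap
  have hr : r ∘ₗ (ringMap Z f).toLinearMap = LinearMap.id := by
    refine LinearMap.ext fun x => MonoidAlgebra.coeff_injective ?_
    exact Finsupp.comapDomain_mapDomain (AddMonoidHom.toMultiplicative f) (fun x y h => hf h) x.coeff
  refine Function.LeftInverse.injective (g := TensorProduct.map r LinearMap.id) fun x => ?_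
  induction x using TensorProduct.induction_on with
  | zero => simp
  | tmul a c =>
    rw [Algebra.TensorProduct.map_tmul, TensorProduct.map_tmul]
    exact congrArg (fun t => t ⊗ₜ[Z] c) (LinearMap.congr_fun hr a)
  | add a c ha hc => rw [map_add, map_add, ha, hc]

attribute [local instance 2000] Algebra.toModule

section Chart

/-- The integers. -/
abbrev Zu : Type u := ULift.{u} ℤ

variable (S : Scheme.{u}) (T : Over S) (R : Type u) [CommRing R] [Algebra Zu.{u} R]
  (o : Spec (CommRingCat.of R) ⟶ T.left)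

/-- `Spec (ℤ[P] ⊗ R)`. -/
abbrev ring (P : Type) [AddCommMonoid P] : Type u :=
  TensorProduct Zu.{u} (MonoidAlgebra Zu.{u} (Multiplicative P)) R

/-- The projection to `Spec ℤ[P]`. -/
noncomputable abbrev inL (P : Type) [AddCommMonoid P] :
    Spec (CommRingCat.of (ring R P)) ⟶ Spec (CommRingCat.of (MonoidAlgebra Zu.{u} (Multiplicative P))) :=
  Spec.map (CommRingCat.ofHom (Algebra.TensorProduct.includeLeftRingHom
    (R := Zu.{u}) (A := MonoidAlgebra Zu.{u} (Multiplicative P)) (B := R)))

/-- The projection to `Spec R`. -/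
noncomputable abbrev inR (P : Type) [AddCommMonoid P] :
    Spec (CommRingCat.of (ring R P)) ⟶ Spec (CommRingCat.of R) :=
  Spec.map (CommRingCat.ofHom (Algebra.TensorProduct.includeRight
    (R := Zu.{u}) (A := MonoidAlgebra Zu.{u} (Multiplicative P)) (B := R)).toRingHom)

/-- The chart of `A(P) × T` over `Spec R`. -/
noncomputable def chart (P : Type) [AddCommMonoid P] :
    Spec (CommRingCat.of (ring R P)) ⟶ (Magnet.AMonS S P ⊗ T).left :=
  pullback.lift (pullback.lift (inL R P) (inR R P ≫ o ≫ T.hom) (specULiftZIsTerminal.hom_ext _ _))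
    (inR R P ≫ o) ((pullback.lift_snd _ _ _).trans (Category.assoc _ _ _).symm)

theorem chart_fst_fst (P : Type) [AddCommMonoid P] :
    chart S T R o P ≫ pullback.fst _ _ ≫ pullback.fst _ _ = inL R P := by
  rw [← Category.assoc]
  erw [pullback.lift_fst]
  exact pullback.lift_fst _ _ _

theorem chart_fst_snd (P : Type) [AddCommMonoid P] :
    chart S T R o P ≫ pullback.fst _ _ ≫ pullback.snd _ _ = inR R P ≫ o ≫ T.hom := by
  rw [← Category.assoc]
  erw [pullback.lift_fst]
  exact pullback.lift_snd _ _ _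

theorem chart_snd (P : Type) [AddCommMonoid P] :
    chart S T R o P ≫ (snd (Magnet.AMonS S P) T).left = inR R P ≫ o :=
  pullback.lift_snd _ _ _

theorem chart_comp (f : N →+ M) :
    chart S T R o M ≫ (Magnet.AMonS.map S f ▷ T).left =
      Spec.map (CommRingCat.ofHom
        (Algebra.TensorProduct.map (ringMap Zu.{u} f) (AlgHom.id Zu.{u} R)).toRingHom) ≫ chart S T R o N := by
  set F := Spec.map (CommRingCat.ofHom
        (Algebra.TensorProduct.map (ringMap Zu.{u} f) (AlgHom.id Zu.{u} R)).toRingHom) with hF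
  have hR : F ≫ inR R N = inR R M := by
    rw [hF, ← Spec.map_comp, ← CommRingCat.ofHom_comp]
    congr 2
    ext r
    simp
  have hL : F ≫ inL R N = inL R M ≫ (Magnet.AMon.map Zu.{u} f).left := by
    rw [hF, Magnet.AMon.map_left, ← Spec.map_comp, ← Spec.map_comp, ← CommRingCat.ofHom_comp,
      ← CommRingCat.ofHom_comp]
    congr 2
  have e1 : (Magnet.AMonS.map S f).left ≫ pullback.fst _ _ =
      pullback.fst _ _ ≫ (Magnet.AMon.map Zu.{u} f).left := pullback.lift_fst _ _ _
  have e2 : (Magnet.AMonS.map S f).left ≫ pullback.snd _ _ = pullback.snd _ _ :=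
    Over.w (Magnet.AMonS.map S f)
  apply pullback.hom_ext
  · apply pullback.hom_ext
    · simp only [Category.assoc, Over.whiskerRight_left_fst_assoc]
      rw [e1, chart_fst_fst]
      refine Eq.trans ?_ hL.symm
      rw [← chart_fst_fst S T R o M]
      simp only [Category.assoc]
    · simp only [Category.assoc, Over.whiskerRight_left_fst_assoc]
      rw [e2, chart_fst_snd, chart_fst_snd, reassoc_of% hR]
  · simp only [Category.assoc, Over.whiskerRight_left_snd]
    rw [show chart S T R o M ≫ pullback.snd _ _ = inR R M ≫ o from chart_snd S T R o M,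
      show chart S T R o N ≫ pullback.snd _ _ = inR R N ≫ o from chart_snd S T R o N, reassoc_of% hR]

theorem chart_isPullback (P : Type) [AddCommMonoid P] :
    IsPullback (chart S T R o P) (inR R P) (snd (Magnet.AMonS S P) T).left o := by
  have big : IsPullback (pullback.fst (Magnet.AMonS S P).hom T.hom ≫
      pullback.fst (Magnet.AMon Zu.{u} P).hom _)
      (snd (Magnet.AMonS S P) T).left (Magnet.AMon Zu.{u} P).hom
      (T.hom ≫ IsTerminal.from specULiftZIsTerminal.{u} S) :=
    (IsPullback.of_hasPullback (Magnet.AMonS S P).hom T.hom).paste_horiz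
      (IsPullback.of_hasPullback (Magnet.AMon Zu.{u} P).hom _)
  refine IsPullback.of_right ?_ (chart_snd S T R o P) big
  rw [chart_fst_fst]
  have h1 := isPullback_SpecMap_of_isPushout _ _ _ _
    (CommRingCat.isPushout_tensorProduct Zu.{u} (MonoidAlgebra Zu.{u} (Multiplicative P)) R)
  have e : o ≫ T.hom ≫ IsTerminal.from specULiftZIsTerminal.{u} S =
      Spec.map (CommRingCat.ofHom (algebraMap Zu.{u} R)) := specULiftZIsTerminal.hom_ext _ _
  rw [e]
  exact h1

theorem chart_eq (f : N →+ M) (hf : Function.Injective f) {X : Over S} [IsSeparated X.hom]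
    (φ₁ φ₂ : Magnet.AMonS S N ⊗ T ⟶ X)
    (h : (Magnet.AMonS.map S f ▷ T) ≫ φ₁ = (Magnet.AMonS.map S f ▷ T) ≫ φ₂) :
    pullback.fst (snd (Magnet.AMonS S N) T).left o ≫ φ₁.left =
      pullback.fst (snd (Magnet.AMonS S N) T).left o ≫ φ₂.left := by
  have hag : chart S T R o N ≫ φ₁.left = chart S T R o N ≫ φ₂.left := by
    refine eq_affine (CommRingCat.ofHom (Algebra.TensorProduct.map (ringMap Zu.{u} f) (AlgHom.id Zu.{u} R)).toRingHom) (injective_tensor Zu.{u} f hf R) X.hom _ _ (by simp) ?_
    rw [← reassoc_of% (chart_comp S T R o f), ← reassoc_of% (chart_comp S T R o f),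
      ← Over.comp_left, h, Over.comp_left]
  have hj := (chart_isPullback S T R o N).lift_fst (pullback.fst _ o) (pullback.snd _ o) pullback.condition
  rw [← hj, Category.assoc, Category.assoc, hag]

end Chart

/-- Two `T`-families of morphisms out of `A(N)` agreeing on `A(M)` agree. -/
theorem eq_of_map (S : Scheme.{u}) (f : N →+ M) (hf : Function.Injective f) {X : Over S}
    [IsSeparated X.hom] (T : Over S) (φ₁ φ₂ : Magnet.AMonS S N ⊗ T ⟶ X)
    (h : (Magnet.AMonS.map S f ▷ T) ≫ φ₁ = (Magnet.AMonS.map S f ▷ T) ≫ φ₂) : φ₁ = φ₂ := by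
  apply Over.OverMorphism.ext
  refine Scheme.Cover.hom_ext (T.left.affineCover.pullback₁ (snd (Magnet.AMonS S N) T).left) _ _ fun i => ?_
  let X' := T.left.affineCover.X i
  let e : Spec Γ(X', ⊤) ≅ X' := X'.isoSpec.symm
  let aR : CommRingCat.of (ULift.{u} ℤ) ⟶ Γ(X', ⊤) :=
    Spec.preimage (IsTerminal.from specULiftZIsTerminal.{u} (Spec Γ(X', ⊤)))
  letI : Algebra Zu.{u} Γ(X', ⊤) := aR.hom.toAlgebra
  have hc := chart_eq S T Γ(X', ⊤) (e.hom ≫ T.left.affineCover.f i) f hf φ₁ φ₂ h
  let j : pullback (snd (Magnet.AMonS S N) T).left (T.left.affineCover.f i) ⟶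
      pullback (snd (Magnet.AMonS S N) T).left (e.hom ≫ T.left.affineCover.f i) :=
    pullback.lift (pullback.fst _ _) (pullback.snd _ _ ≫ e.inv) (by
      rw [pullback.condition, Category.assoc]; erw [e.inv_hom_id_assoc])
  show pullback.fst _ (T.left.affineCover.f i) ≫ φ₁.left = pullback.fst _ (T.left.affineCover.f i) ≫ φ₂.left
  rw [show pullback.fst _ (T.left.affineCover.f i) = j ≫ pullback.fst _ _ from (pullback.lift_fst _ _ _).symm,
    Category.assoc, Category.assoc, hc]

open Magnet in
/-- Evaluation at the unit is injective on attractors of separated schemes. -/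
theorem attrToX_injective {S : Scheme.{u}} {M : Type} [AddCommMonoid M] {X : Over S} [IsSeparated X.hom]
    (a : MonAct (AMonS S M) X) (N : AddSubmonoid M) (T : Over S) :
    Function.Injective (fun φ => (attrToX a N).app (op T) φ) := by
  intro φ₁ φ₂ h
  refine Subtype.ext (eq_of_map S N.subtype Subtype.val_injective T φ₁.1 φ₂.1 ?_)
  have key : ∀ φ : (attr a N).obj (op T), (AMonS.map S N.subtype ▷ T) ≫ φ.1 =
      lift (fst (AMonS S M) T)
        (snd (AMonS S M) T ≫ (attrToX a N).app (op T) φ) ≫ a.act := by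
    intro φ
    have h2 := (MonAct.mem_eqvHom_iff φ.1).1 φ.2 _ (fst (AMonS S M) T)
      (toUnit _ ≫ η[AMonS S N]) (snd (AMonS S M) T)
    have e1 : lift (toUnit _ ≫ η[AMonS S N]) (snd (AMonS S M) T) ≫ φ.1 =
        snd (AMonS S M) T ≫ (attrToX a N).app (op T) φ := by
      rw [attrToX, MonAct.eqvHom.evalAt_app, comp_lift_assoc, comp_toUnit_assoc, Category.comp_id]
    rw [← e1]
    refine Eq.trans ?_ h2
    refine congrArg (fun t => t ≫ φ.1) ?_
    apply CartesianMonoidalCategory.hom_ext
    · simp only [subAct, MonAct.restrict, MonAct.regular, lift_fst]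
      rw [CartesianMonoidalCategory.whiskerRight_fst]
      erw [MonAct.mk'_act]
      erw [CartesianMonoidalCategory.lift_whiskerRight_assoc]
      rw [MonObj.lift_comp_one_right]
    · simp
  rw [key, key]
  exact congrArg (fun t => lift (fst (AMonS S M) T) (snd (AMonS S M) T ≫ t) ≫ a.act) h

end Groth.Agent.MagnetAttr
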