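import Groth.Prelude.Def_Magnet2
import Mathlib.AlgebraicGeometry.Group.Affine

/-!
# Maps of diagonalizable monoid schemes are additive in the monoid map
-/

set_option autoImplicit false
set_option backward.isDefEq.respectTransparency false

universe u

open CategoryTheory CategoryTheory.Limits MonoidalCategory CartesianMonoidalCategory MonObj AlgebraicGeometry Opposite

namespace Groth.Agent.MagnetAttr

theorem AMon_map_add (R : Type u) [CommRing R] {M N : Type} [AddCommMonoid M] [AddCommMonoid N] (f g : N →+ M) :
    Magnet.AMon.map R (f + g) = Magnet.AMon.map R f * Magnet.AMon.map R g := by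
  let al (h : N →+ M) : MonoidAlgebra R (Multiplicative N) →ₐ[R] MonoidAlgebra R (Multiplicative M) :=
    (MonoidAlgebra.mapDomainBialgHom R (AddMonoidHom.toMultiplicative h)).toAlgHom
  have key : ∀ h : N →+ M, Magnet.AMon.map R h = AlgebraicGeometry.Spec.mapMulEquiv (WithConv.toConv (al h)) :=
    fun h => Over.OverMorphism.ext rfl
  rw [key, key, key, ← map_mul]
  congr 1
  apply WithConv.ofConv_injective
  refine MonoidAlgebra.algHom_ext (fun m => ?_) (Subsingleton.elim _ _)
  simp [al, AlgHom.convMul_def, MonoidAlgebra.single_mul_single]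

theorem AMonS_map_add (S : Scheme.{u}) {M N : Type} [AddCommMonoid M] [AddCommMonoid N] (f g : N →+ M) :
    Magnet.AMonS.map S (f + g) = Magnet.AMonS.map S f * Magnet.AMonS.map S g := by
  unfold Magnet.AMonS.map
  rw [AMon_map_add, Functor.map_mul]

end Groth.Agent.MagnetAttr
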