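import Groth.Agent.MagnetAttr.Dominant
import Groth.Agent.MagnetAttr.MapAdd
import Groth.Prelude.Def_Magnet3

/-!
# Change of monoid for attractors of schemes affine over the base
-/

set_option autoImplicit false
set_option backward.isDefEq.respectTransparency false
set_option linter.style.haveILetI false
set_option linter.unusedSimpArgs false

universe u

open CategoryTheory CategoryTheory.Limits MonoidalCategory CartesianMonoidalCategory MonObj AlgebraicGeometry Opposite

namespace Groth.Agent.MagnetAttr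

attribute [local instance 2000] Algebra.toModule

variable {M Z : Type} [AddCommMonoid M] [AddCommMonoid Z] (f : M →+ Z) (Y : AddSubmonoid Z)

/-- The graph `M → M × Z`. -/
noncomputable def graph : M →+ M × Z := (AddMonoidHom.id M).prod f

/-- The inclusion `M × Y → M × Z`. -/
noncomputable def inclY (M : Type) [AddCommMonoid M] : M × Y →+ M × Z :=
  (AddMonoidHom.id M).prodMap Y.subtype

section Filter

open Classical in
/-- Keep the coefficients at a set of exponents. -/
noncomputable def filt {P : Type} (p : Set P) :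
    MonoidAlgebra Zu.{u} (Multiplicative P) →ₗ[Zu.{u}] MonoidAlgebra Zu.{u} (Multiplicative P) where
  toFun a := (MonoidAlgebra.coeffLinearEquiv Zu.{u}).symm
    ((MonoidAlgebra.coeffLinearEquiv Zu.{u} a).filter fun m => m.toAdd ∈ p)
  map_add' a b := by rw [map_add, Finsupp.filter_add, map_add]
  map_smul' c a := by rw [map_smul, Finsupp.filter_smul, map_smul, RingHom.id_apply]

theorem filt_single_of_mem {P : Type} {p : Set P} {m : Multiplicative P} (h : m.toAdd ∈ p) (z : Zu.{u}) :
    filt p (MonoidAlgebra.single m z) = MonoidAlgebra.single m z := by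
  classical
  apply MonoidAlgebra.coeff_injective
  exact Finsupp.filter_single_of_pos (fun n => Multiplicative.toAdd n ∈ p) h

theorem filt_single_of_notMem {P : Type} {p : Set P} {m : Multiplicative P} (h : m.toAdd ∉ p) (z : Zu.{u}) :
    filt p (MonoidAlgebra.single m z) = 0 := by
  classical
  apply MonoidAlgebra.coeff_injective
  exact Finsupp.filter_single_of_neg (fun n => Multiplicative.toAdd n ∈ p) h

variable (R : Type u) [CommRing R] [Algebra Zu.{u} R]

/-- The map of chart rings. -/
noncomputable abbrev chartMap {N P : Type} [AddCommMonoid N] [AddCommMonoid P] (g : N →+ P) :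
    CommRingCat.of (ring R N) ⟶ CommRingCat.of (ring R P) :=
  CommRingCat.ofHom (Algebra.TensorProduct.map (ringMap Zu.{u} g) (AlgHom.id Zu.{u} R)).toRingHom

/-- An element whose graph is supported on `M × Y` is supported on `f⁻¹ Y`. -/
theorem mem_range_of_graph (x : ring R M) (hx : (chartMap R (graph f)).hom x ∈ (chartMap R (inclY Y M)).hom.rangeS) :
    x ∈ (chartMap R (Y.comap f).subtype).hom.rangeS := by
  let P : ring R M →ₗ[Zu.{u}] ring R M := TensorProduct.map (filt (↑(Y.comap f) : Set M)) LinearMap.id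
  let Q : ring R (M × Z) →ₗ[Zu.{u}] ring R (M × Z) := TensorProduct.map (filt {q : M × Z | q.2 ∈ Y}) LinearMap.id
  have hinj : Function.Injective (chartMap R (graph f)).hom :=
    injective_tensor Zu.{u} (graph f) (fun a b h => congrArg Prod.fst h) R
  have hGP : ∀ y, (chartMap R (graph f)).hom (P y) = Q ((chartMap R (graph f)).hom y) := by
    intro y
    induction y using TensorProduct.induction_on with
    | zero => simp
    | tmul a r =>
      induction a using MonoidAlgebra.induction_linear with
      | zero => simp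
      | add p q hp hq => simp only [TensorProduct.add_tmul, map_add, hp, hq]
      | single m z =>
        by_cases h : m.toAdd ∈ Y.comap f
        · rw [TensorProduct.map_tmul, filt_single_of_mem h]
          simp only [chartMap, CommRingCat.hom_ofHom, AlgHom.toRingHom_eq_coe, RingHom.coe_coe, Algebra.TensorProduct.map_tmul, Q,
            TensorProduct.map_tmul, LinearMap.id_apply]
          simp [graph]
          rw [filt_single_of_mem (by exact h)]
        · rw [TensorProduct.map_tmul, filt_single_of_notMem h]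
          simp only [chartMap, CommRingCat.hom_ofHom, AlgHom.toRingHom_eq_coe, RingHom.coe_coe, Algebra.TensorProduct.map_tmul, Q,
            TensorProduct.map_tmul, LinearMap.id_apply, TensorProduct.zero_tmul, map_zero]
          simp [graph]
          rw [filt_single_of_notMem (by exact h), TensorProduct.zero_tmul]
    | add a b ha hb => simp only [map_add, ha, hb]
  have hQι : ∀ y, Q ((chartMap R (inclY Y M)).hom y) = (chartMap R (inclY Y M)).hom y := by
    intro y
    induction y using TensorProduct.induction_on with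
    | zero => simp
    | tmul a r =>
      induction a using MonoidAlgebra.induction_linear with
      | zero => simp
      | add p q hp hq => simp only [TensorProduct.add_tmul, map_add, hp, hq]
      | single m z =>
        simp only [chartMap, CommRingCat.hom_ofHom, AlgHom.toRingHom_eq_coe, RingHom.coe_coe, Algebra.TensorProduct.map_tmul, Q,
          TensorProduct.map_tmul, LinearMap.id_apply]
        simp [inclY]
        rw [filt_single_of_mem (by exact m.toAdd.2.2)]
    | add a b ha hb => simp only [map_add, ha, hb]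
  have hP : ∀ y, P y ∈ (chartMap R (Y.comap f).subtype).hom.rangeS := by
    intro y
    induction y using TensorProduct.induction_on with
    | zero => simp
    | tmul a r =>
      induction a using MonoidAlgebra.induction_linear with
      | zero => simp
      | add p q hp hq => simp only [TensorProduct.add_tmul, map_add]; exact add_mem hp hq
      | single m z =>
        by_cases h : m.toAdd ∈ Y.comap f
        · refine ⟨MonoidAlgebra.single (Multiplicative.ofAdd (⟨_, h⟩ : Y.comap f)) z ⊗ₜ r, ?_⟩
          rw [TensorProduct.map_tmul, filt_single_of_mem h]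
          simp
        · rw [TensorProduct.map_tmul, filt_single_of_notMem h, TensorProduct.zero_tmul]
          exact zero_mem _
    | add a b ha hb => rw [map_add]; exact add_mem ha hb
  obtain ⟨y, hy⟩ := hx
  have e : P x = x := hinj (by rw [hGP, ← hy, hQι])
  exact e ▸ hP x

end Filter

open Magnet in
/-- Factorisation over an affine base, for targets affine over `S`. -/
theorem exists_factor_affine {S : Scheme.{u}} {X : Over S} [IsAffineHom X.hom] (T : Over S) [IsAffine T.left]
    (o : AMonS S M ⊗ T ⟶ X) (φ' : AMonS S (M × Y) ⊗ T ⟶ X)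
    (H : (AMonS.map S (graph f) ▷ T) ≫ o = (AMonS.map S (inclY Y M) ▷ T) ≫ φ') :
    ∃ ψ : AMonS S (Y.comap f) ⊗ T ⟶ X, (AMonS.map S (Y.comap f).subtype ▷ T) ≫ ψ = o := by
  let ε : Spec Γ(T.left, ⊤) ≅ T.left := T.left.isoSpec.symm
  let aR : CommRingCat.of (ULift.{u} ℤ) ⟶ Γ(T.left, ⊤) :=
    Spec.preimage (IsTerminal.from specULiftZIsTerminal.{u} (Spec Γ(T.left, ⊤)))
  letI : Algebra Zu.{u} Γ(T.left, ⊤) := aR.hom.toAlgebra
  let R : Type u := Γ(T.left, ⊤)
  let c (P : Type) [AddCommMonoid P] := chart S T R ε.hom P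
  have hci : ∀ (P : Type) [AddCommMonoid P], IsIso (c P) := fun P _ =>
    (chart_isPullback S T R ε.hom P).isIso_fst_of_isIso
  have hch : ∀ (P : Type) [AddCommMonoid P], c P ≫ (AMonS S P ⊗ T).hom = inR R P ≫ ε.hom ≫ T.hom := by
    intro P _
    rw [← Over.w (snd (AMonS S P) T), reassoc_of% (chart_snd S T R ε.hom P)]
  have hR : ∀ {N P : Type} [AddCommMonoid N] [AddCommMonoid P] (g : N →+ P),
      Spec.map (chartMap R g) ≫ inR R N = inR R P := by
    intro N P _ _ g
    rw [← Spec.map_comp]
    congr 1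
    ext r
    simp [chartMap]
  let XT := pullback X.hom T.hom
  haveI : IsAffineHom (pullback.snd X.hom T.hom) := MorphismProperty.pullback_snd _ _ inferInstance
  haveI : IsAffine XT := isAffine_of_isAffineHom (pullback.snd X.hom T.hom)
  let U (P : Type) [AddCommMonoid P] (θ : AMonS S P ⊗ T ⟶ X) : Spec (CommRingCat.of (ring R P)) ⟶ XT :=
    pullback.lift (c P ≫ θ.left) (inR R P ≫ ε.hom) (by rw [Category.assoc, Over.w θ, hch, Category.assoc])
  let α (P : Type) [AddCommMonoid P] (θ : AMonS S P ⊗ T ⟶ X) : Γ(XT, ⊤) ⟶ CommRingCat.of (ring R P) :=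
    Spec.preimage (U P θ ≫ XT.isoSpec.hom)
  have hU : Spec.map (chartMap R (graph f)) ≫ U M o =
      Spec.map (chartMap R (inclY Y M)) ≫ U (M × Y) φ' := by
    apply pullback.hom_ext
    · simp only [U, Category.assoc, pullback.lift_fst]
      rw [← reassoc_of% (chart_comp S T R ε.hom (graph f)), ← reassoc_of% (chart_comp S T R ε.hom (inclY Y M)),
        ← Over.comp_left, H, Over.comp_left]
    · simp only [U, Category.assoc, pullback.lift_snd]
      rw [reassoc_of% (hR (graph f)), reassoc_of% (hR (inclY Y M))]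
  have hα : α M o ≫ chartMap R (graph f) = α (M × Y) φ' ≫ chartMap R (inclY Y M) := by
    apply Spec.map_injective
    simp only [α, Spec.map_comp, Spec.map_preimage, ← Category.assoc, hU]
  have hrange : ∀ x, (α M o).hom x ∈ (chartMap R (Y.comap f).subtype).hom.rangeS := fun x =>
    mem_range_of_graph f Y R _ ⟨(α (M × Y) φ').hom x,
      (congrArg (fun t : Γ(XT, ⊤) ⟶ CommRingCat.of (ring R (M × Z)) => t.hom x) hα).symm⟩
  have hinj : Function.Injective (chartMap R (Y.comap f).subtype).hom :=
    injective_tensor Zu.{u} (Y.comap f).subtype Subtype.val_injective R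
  let eq := RingEquiv.ofBijective (chartMap R (Y.comap f).subtype).hom.rangeSRestrict
    ⟨fun a b h => hinj (congrArg Subtype.val h), (chartMap R (Y.comap f).subtype).hom.rangeSRestrict_surjective⟩
  let γ : Γ(XT, ⊤) ⟶ CommRingCat.of (ring R (Y.comap f)) :=
    CommRingCat.ofHom (eq.symm.toRingHom.comp ((α M o).hom.codRestrict _ hrange))
  have hγ : γ ≫ chartMap R (Y.comap f).subtype = α M o := by
    refine CommRingCat.hom_ext (RingHom.ext fun x => ?_)
    exact congrArg Subtype.val (eq.apply_symm_apply ⟨_, hrange x⟩)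
  let V := Spec.map γ ≫ XT.isoSpec.inv
  have hV : Spec.map (chartMap R (Y.comap f).subtype) ≫ V = U M o := by
    simp only [V, ← Category.assoc, ← Spec.map_comp, hγ]
    simp only [α, Spec.map_preimage, Category.assoc, Iso.hom_inv_id, Category.comp_id]
  have hV2 : V ≫ pullback.snd X.hom T.hom = inR R (Y.comap f) ≫ ε.hom := by
    refine eq_affine (chartMap R (Y.comap f).subtype) hinj
      (IsTerminal.from specULiftZIsTerminal.{u} T.left) _ _ (specULiftZIsTerminal.hom_ext _ _) ?_
    rw [← Category.assoc, hV, reassoc_of% (hR (Y.comap f).subtype)]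
    exact pullback.lift_snd _ _ _
  haveI := hci (Y.comap f)
  let ψ : AMonS S (Y.comap f) ⊗ T ⟶ X := Over.homMk (inv (c (Y.comap f)) ≫ V ≫ pullback.fst X.hom T.hom) (by
    rw [Category.assoc, Category.assoc, pullback.condition, IsIso.inv_comp_eq, ← Category.assoc, hV2, hch, Category.assoc])
  refine ⟨ψ, Over.OverMorphism.ext ?_⟩
  haveI := hci M
  rw [← cancel_epi (c M), Over.comp_left]
  show c M ≫ _ ≫ inv (c (Y.comap f)) ≫ V ≫ pullback.fst _ _ = _
  rw [reassoc_of% (chart_comp S T R ε.hom (Y.comap f).subtype), IsIso.hom_inv_id_assoc, ← Category.assoc, hV]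
  exact pullback.lift_fst _ _ _

open Magnet in
/-- Factorisation, for targets affine over `S`. -/
theorem exists_factor {S : Scheme.{u}} {X : Over S} [IsAffineHom X.hom] (T : Over S)
    (o : AMonS S M ⊗ T ⟶ X) (φ' : AMonS S (M × Y) ⊗ T ⟶ X)
    (H : (AMonS.map S (graph f) ▷ T) ≫ o = (AMonS.map S (inclY Y M) ▷ T) ≫ φ') :
    ∃ ψ : AMonS S (Y.comap f) ⊗ T ⟶ X, (AMonS.map S (Y.comap f).subtype ▷ T) ≫ ψ = o := by
  let N := Y.comap f
  let 𝒰 := T.left.affineCover
  let Tj (j : 𝒰.I₀) : Over S := Over.mk (𝒰.f j ≫ T.hom)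
  let gj (j : 𝒰.I₀) : Tj j ⟶ T := Over.homMk (𝒰.f j) rfl
  haveI : ∀ j, IsAffine (Tj j).left := fun j => inferInstanceAs (IsAffine (Spec _))
  have hloc : ∀ j, ∃ ψ : AMonS S N ⊗ Tj j ⟶ X,
      (AMonS.map S N.subtype ▷ Tj j) ≫ ψ = (AMonS S M ◁ gj j) ≫ o := by
    intro j
    refine exists_factor_affine f Y (Tj j) _ ((AMonS S (M × Y) ◁ gj j) ≫ φ') ?_
    rw [← whisker_exchange_assoc, H, whisker_exchange_assoc]
  choose ψ hψ using hloc
  have hsq : ∀ j, IsPullback (AMonS S N ◁ gj j).left (snd (AMonS S N) (Tj j)).left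
      (snd (AMonS S N) T).left (𝒰.f j) := by
    intro j
    refine IsPullback.of_right (h₁₂ := pullback.fst (AMonS S N).hom T.hom) (v₁₁ := (snd (AMonS S N) (Tj j)).left)
      (v₁₃ := (AMonS S N).hom) (h₂₂ := T.hom) ?_ ?_ (IsPullback.of_hasPullback _ _)
    · rw [Over.whiskerLeft_left_fst]
      exact IsPullback.of_hasPullback (AMonS S N).hom (Tj j).hom
    · exact congrArg CommaMorphism.left (whiskerLeft_snd (AMonS S N) (gj j))
  let 𝒱 := 𝒰.pullback₁ (snd (AMonS S N) T).left
  let g : ∀ j, 𝒱.X j ⟶ X.left := fun j => (hsq j).isoPullback.inv ≫ (ψ j).left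
  have hcompat : ∀ i j, pullback.fst (𝒱.f i) (𝒱.f j) ≫ g i = pullback.snd (𝒱.f i) (𝒱.f j) ≫ g j := by
    intro i j
    let a : pullback (𝒱.f i) (𝒱.f j) ⟶ (AMonS S N ⊗ Tj i).left := pullback.fst _ _ ≫ (hsq i).isoPullback.inv
    let b : pullback (𝒱.f i) (𝒱.f j) ⟶ (AMonS S N ⊗ Tj j).left := pullback.snd _ _ ≫ (hsq j).isoPullback.inv
    have hab : a ≫ (AMonS S N ◁ gj i).left = b ≫ (AMonS S N ◁ gj j).left := by
      simp only [a, b, Category.assoc, IsPullback.isoPullback_inv_fst]
      exact pullback.condition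
    let Q : Over S := Over.mk (a ≫ (AMonS S N ⊗ Tj i).hom)
    let a' : Q ⟶ AMonS S N ⊗ Tj i := Over.homMk a rfl
    let b' : Q ⟶ AMonS S N ⊗ Tj j := Over.homMk b (by
      show b ≫ _ = a ≫ _
      rw [← Over.w (AMonS S N ◁ gj i), ← Over.w (AMonS S N ◁ gj j), ← Category.assoc, ← hab, Category.assoc])
    have hab' : a' ≫ (AMonS S N ◁ gj i) = b' ≫ (AMonS S N ◁ gj j) := Over.OverMorphism.ext hab
    let t : Q ⟶ pullback (gj i) (gj j) := pullback.lift (a' ≫ snd _ _) (b' ≫ snd _ _) (by
      have := congrArg (fun z => z ≫ snd _ _) hab'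
      simpa only [Category.assoc, whiskerLeft_snd] using this)
    have hfst : a' ≫ fst _ _ = b' ≫ fst _ _ := by
      have := congrArg (fun z => z ≫ fst _ _) hab'
      simpa only [Category.assoc, whiskerLeft_fst] using this
    have ha : a' = lift (a' ≫ fst _ _) t ≫ (AMonS S N ◁ pullback.fst (gj i) (gj j)) := by
      rw [lift_whiskerLeft, pullback.lift_fst, lift_comp_fst_snd]
    have hb : b' = lift (a' ≫ fst _ _) t ≫ (AMonS S N ◁ pullback.snd (gj i) (gj j)) := by
      rw [lift_whiskerLeft, pullback.lift_snd, hfst, lift_comp_fst_snd]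
    have hW : (AMonS S N ◁ pullback.fst (gj i) (gj j)) ≫ ψ i = (AMonS S N ◁ pullback.snd (gj i) (gj j)) ≫ ψ j := by
      refine eq_of_map S N.subtype Subtype.val_injective _ _ _ ?_
      rw [← whisker_exchange_assoc, hψ, ← whisker_exchange_assoc, hψ, ← MonoidalCategory.whiskerLeft_comp_assoc,
        ← MonoidalCategory.whiskerLeft_comp_assoc, pullback.condition]
    have e : a' ≫ ψ i = b' ≫ ψ j := by rw [ha, hb, Category.assoc, Category.assoc, hW]
    have e' := congrArg CommaMorphism.left e
    simpa only [Over.comp_left, a', b', Over.homMk_left, a, b, Category.assoc] using e'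
  let ψ₀ := Scheme.Cover.glueMorphisms 𝒱 g hcompat
  have hover : ψ₀ ≫ X.hom = (AMonS S N ⊗ T).hom := by
    refine Scheme.Cover.hom_ext 𝒱 _ _ fun j => ?_
    rw [← Category.assoc, Scheme.Cover.ι_glueMorphisms]
    simp only [g, Category.assoc, Over.w]
    rw [Iso.inv_comp_eq]
    rw [← Category.assoc]
    erw [IsPullback.isoPullback_hom_fst]
    exact (Over.w (AMonS S N ◁ gj j)).symm
  let Ψ : AMonS S N ⊗ T ⟶ X := Over.homMk ψ₀ hover
  have hΨ : ∀ j, (AMonS S N ◁ gj j) ≫ Ψ = ψ j := by
    intro j
    apply Over.OverMorphism.ext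
    show (AMonS S N ◁ gj j).left ≫ ψ₀ = _
    have e1 : (AMonS S N ◁ gj j).left = (hsq j).isoPullback.hom ≫ 𝒱.f j := (hsq j).isoPullback_hom_fst.symm
    have e2 : 𝒱.f j ≫ ψ₀ = (hsq j).isoPullback.inv ≫ (ψ j).left := Scheme.Cover.ι_glueMorphisms 𝒱 g hcompat j
    rw [e1, Category.assoc, e2]
    exact Iso.hom_inv_id_assoc _ _
  refine ⟨Ψ, ?_⟩
  apply Over.OverMorphism.ext
  refine Scheme.Cover.hom_ext (𝒰.pullback₁ (snd (AMonS S M) T).left) _ _ fun j => ?_
  have hsqM : IsPullback (AMonS S M ◁ gj j).left (snd (AMonS S M) (Tj j)).left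
      (snd (AMonS S M) T).left (𝒰.f j) := by
    refine IsPullback.of_right (h₁₂ := pullback.fst (AMonS S M).hom T.hom) (v₁₁ := (snd (AMonS S M) (Tj j)).left)
      (v₁₃ := (AMonS S M).hom) (h₂₂ := T.hom) ?_ ?_ (IsPullback.of_hasPullback _ _)
    · rw [Over.whiskerLeft_left_fst]
      exact IsPullback.of_hasPullback (AMonS S M).hom (Tj j).hom
    · exact congrArg CommaMorphism.left (whiskerLeft_snd (AMonS S M) (gj j))
  show pullback.fst _ _ ≫ _ = pullback.fst _ _ ≫ _
  rw [← hsqM.isoPullback_inv_fst, Category.assoc, Category.assoc]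
  congr 1
  rw [← Over.comp_left, ← Over.comp_left, whisker_exchange_assoc, hΨ, hψ]

open Magnet in
/-- Change of monoid for attractors of schemes affine over the base. -/
theorem isIso_attrComap_affine {S : Scheme.{u}} {X : Over S} [IsAffineHom X.hom] (a : MonAct (AMonS S M) X) :
    IsIso (attrComap a f Y) := by
  let g : Y.comap f →+ Y := (f.comp (Y.comap f).subtype).codRestrict Y (fun x => x.2)
  have hev : ∀ (T : Over S) (ψ : (attr a (Y.comap f)).obj (op T)),
      (attrToX (a.restrict (AMonS.map S f)) Y).app (op T) ((attrComap a f Y).app (op T) ψ) =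
        (attrToX a (Y.comap f)).app (op T) ψ := by
    intro T ψ
    rw [attrToX, attrToX, MonAct.eqvHom.evalAt_app, MonAct.eqvHom.evalAt_app, attrComap_app_coe]
    erw [lift_whiskerRight_assoc]
    rw [Category.assoc, IsMonHom.one_hom]
  rw [NatTrans.isIso_iff_isIso_app]
  intro T
  induction T using Opposite.rec with | op T => ?_
  rw [isIso_iff_bijective]
  constructor
  · intro ψ₁ ψ₂ h
    apply attrToX_injective a (Y.comap f) T
    show (attrToX a (Y.comap f)).app (op T) ψ₁ = (attrToX a (Y.comap f)).app (op T) ψ₂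
    rw [← hev, ← hev, h]
  · intro φ
    let x : T ⟶ X := (attrToX (a.restrict (AMonS.map S f)) Y).app (op T) φ
    let o : AMonS S M ⊗ T ⟶ X := lift (fst _ _) (snd _ _ ≫ x) ≫ a.act
    let φ' : AMonS S (M × Y) ⊗ T ⟶ X :=
      lift (fst _ _ ≫ AMonS.map S (AddMonoidHom.inl M Y)) ((AMonS.map S (AddMonoidHom.inr M Y) ▷ T) ≫ φ.1) ≫ a.act
    have hH : (AMonS.map S (graph f) ▷ T) ≫ o = (AMonS.map S (inclY Y M) ▷ T) ≫ φ' := by
      refine Magnet.hom_ext_lift₂ fun T' p t => ?_
      have hφ := map_subtype_comp (a.restrict (AMonS.map S f)) Y T φ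
      have h2 := congrArg (fun z => lift (p ≫ AMonS.map S (AddMonoidHom.inr M Z)) t ≫ z) hφ
      simp only [lift_whiskerRight_assoc, comp_lift_assoc, lift_fst, lift_fst_assoc, lift_snd_assoc, MonAct.lift_restrict_act, Category.assoc] at h2
      have ei : AMonS.map S (inclY Y M) ≫ AMonS.map S (AddMonoidHom.inr M Y) =
          AMonS.map S (AddMonoidHom.inr M Z) ≫ AMonS.map S Y.subtype := by
        rw [← AMonS.map_comp, ← AMonS.map_comp]
        congr 1
      have el : AMonS.map S (inclY Y M) ≫ AMonS.map S (AddMonoidHom.inl M Y) = AMonS.map S (AddMonoidHom.inl M Z) := by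
        rw [← AMonS.map_comp]
        congr 1
      have eg : AMonS.map S (graph f) = AMonS.map S (AddMonoidHom.inl M Z) *
          (AMonS.map S (AddMonoidHom.inr M Z) ≫ AMonS.map S f) := by
        rw [← AMonS.map_comp, ← AMonS_map_add]
        congr 1
        ext <;> simp [graph]
      simp only [o, φ', lift_whiskerRight_assoc, comp_lift_assoc, lift_fst, lift_fst_assoc, lift_snd_assoc, Category.assoc]
      rw [el, ei]
      erw [h2]
      rw [eg, MonObj.comp_mul, MonAct.lift_mul_act]
    obtain ⟨ψ, hψ⟩ := exists_factor f Y T o φ' hH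
    have heq : MonAct.IsEquivariant ((subAct S M (Y.comap f)).prod (MonAct.trivial _ T)) a ψ := by
      rw [MonAct.mem_eqvHom_iff]
      intro T' gm b s
      have huniv : lift (lift (snd (AMonS S (Y.comap f)) (AMonS S M ⊗ T) ≫ fst _ _) (fst _ _) ≫ (subAct S M (Y.comap f)).act)
          (snd (AMonS S (Y.comap f)) (AMonS S M ⊗ T) ≫ snd _ _) ≫ ψ =
          lift (snd (AMonS S (Y.comap f)) (AMonS S M ⊗ T) ≫ fst _ _) (lift (fst _ _) (snd (AMonS S (Y.comap f)) (AMonS S M ⊗ T) ≫ snd _ _) ≫ ψ) ≫ a.act := by
        refine eq_of_map S (Y.comap f).subtype Subtype.val_injective (AMonS S M ⊗ T) _ _ ?_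
        refine Magnet.hom_ext_lift₂ fun T'' h z => ?_
        simp only [lift_whiskerRight_assoc, comp_lift_assoc, comp_lift, lift_fst, lift_snd, lift_snd_assoc, Category.assoc,
          subAct, MonAct.lift_restrict_act, MonAct.lift_regular_act, MonObj.comp_mul]
        rw [← Category.assoc z (fst _ _) (AMonS.map S (Y.comap f).subtype), ← MonObj.mul_comp, ← lift_whiskerRight_assoc, hψ, ← lift_whiskerRight_assoc h _ (AMonS.map S (Y.comap f).subtype), hψ]
        simp only [o, comp_lift_assoc, lift_fst, lift_snd_assoc, MonAct.lift_mul_act]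
      have := congrArg (fun t => lift b (lift gm s) ≫ t) huniv
      simpa [comp_lift_assoc, comp_lift] using this
    refine ⟨⟨ψ, heq⟩, ?_⟩
    apply attrToX_injective (a.restrict (AMonS.map S f)) Y T
    refine (hev T ⟨ψ, heq⟩).trans ?_
    show lift (toUnit T ≫ η[AMonS S (Y.comap f)]) (𝟙 T) ≫ ψ = x
    have e1 : lift (toUnit T ≫ η[AMonS S (Y.comap f)]) (𝟙 T) =
        lift (toUnit T ≫ η[AMonS S M]) (𝟙 T) ≫ (AMonS.map S (Y.comap f).subtype ▷ T) := by
      rw [lift_whiskerRight, Category.assoc, IsMonHom.one_hom]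
    rw [e1, Category.assoc, hψ]
    simp only [o, comp_lift_assoc, lift_fst, lift_snd_assoc, Category.id_comp]
    rw [← Hom.one_def, MonAct.lift_one_act]

end Groth.Agent.MagnetAttr
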