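import Groth.Agent.MagnetAttr.Dominant

/-!
# Attractors of invariant closed subschemes
-/

set_option autoImplicit false
set_option backward.isDefEq.respectTransparency false
set_option linter.style.haveILetI false

universe u

open CategoryTheory CategoryTheory.Limits MonoidalCategory CartesianMonoidalCategory MonObj AlgebraicGeometry Opposite

namespace Groth.Agent.MagnetAttr

open Magnet in
/-- Attractors of invariant closed subschemes, for any target. -/
theorem isPullback_postcomp_attrToX' {S : Scheme.{u}} {M : Type} [AddCommMonoid M] (N : AddSubmonoid M)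
    {Y Z : Over S} (aY : MonAct (AMonS S M) Y) (aZ : MonAct (AMonS S M) Z) (f : Z ⟶ Y)
    [IsClosedImmersion f.left] (hf : MonAct.IsEquivariant aZ aY f) :
    IsPullback (MonAct.eqvHom.postcomp (subAct S M N) f hf) (attrToX aZ N) (attrToX aY N) (yoneda.map f) := by
  haveI : Mono f := Over.mono_of_mono_left f
  have hw : MonAct.eqvHom.postcomp (subAct S M N) f hf ≫ attrToX aY N = attrToX aZ N ≫ yoneda.map f := by
    ext T φ
    exact (Category.assoc _ _ _).symm
  refine IsPullback.of_isLimit' ⟨hw⟩ (Limits.evaluationJointlyReflectsLimits _ fun T =>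
    (Limits.isLimitMapConePullbackConeEquiv ((evaluation _ _).obj T) hw).symm ?_)
  refine IsPullback.isLimit (h := ?_)
  rw [Limits.Types.isPullback_iff]
  refine ⟨congrArg (fun t => NatTrans.app t T) hw, ?_, ?_⟩
  · rintro φ₁ φ₂ ⟨h1, -⟩
    exact Subtype.ext ((cancel_mono f).1 (congrArg Subtype.val h1))
  · intro φ z h
    have h' : (attrToX aY N).app (op (unop T)) φ = z ≫ f := h
    obtain ⟨l, hl⟩ := exists_lift_of_map S N.subtype Subtype.val_injective f (unop T) φ.1
      (lift (fst (AMonS S M) (unop T)) (snd (AMonS S M) (unop T) ≫ z) ≫ aZ.act) (by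
        rw [map_subtype_comp aY N (unop T) φ, h', Category.assoc, ← Category.assoc (snd _ _) z f]
        exact ((MonAct.isEquivariant_iff _ _ _).1 hf _ _ _).symm)
    have hle : MonAct.IsEquivariant ((subAct S M N).prod (MonAct.trivial (AMonS S M) (unop T))) aZ l := by
      have hφ := φ.2
      rw [MonAct.isEquivariant_iff] at hφ hf ⊢
      intro T' g x
      rw [← cancel_mono f, Category.assoc, Category.assoc, Category.assoc, hl, hφ, hf, Category.assoc, hl]
    refine ⟨⟨l, hle⟩, Subtype.ext hl, ?_⟩
    show lift (toUnit (unop T) ≫ η[AMonS S N]) (𝟙 (unop T)) ≫ l = z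
    rw [← cancel_mono f, Category.assoc, hl]
    exact h'

end Groth.Agent.MagnetAttr
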