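import Groth.Agent.MagnetAttr.Sep
import Groth.Prelude.Def_Magnet3
import Mathlib.Algebra.Category.Ring.FilteredColimits
import Mathlib.AlgebraicGeometry.AffineTransitionLimit

/-!
# Attractors of a directed union of magnets
-/

set_option autoImplicit false
set_option backward.isDefEq.respectTransparency false
set_option linter.style.haveILetI false

universe u

open CategoryTheory CategoryTheory.Limits MonoidalCategory CartesianMonoidalCategory MonObj AlgebraicGeometry Opposite

namespace Groth.Agent.MagnetAttr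

attribute [local instance 2000] Algebra.toModule

variable {M : Type} [AddCommMonoid M] (R : Type u) [CommRing R] [Algebra Zu.{u} R]

/-- The map of chart rings of an inclusion of submonoids. -/
noncomputable def inclHom {N N' : AddSubmonoid M} (h : N ≤ N') : ring R N →+* ring R N' :=
  (Algebra.TensorProduct.map (ringMap Zu.{u} (AddSubmonoid.inclusion h)) (AlgHom.id Zu.{u} R)).toRingHom

/-- The same in `CommRingCat`. -/
noncomputable abbrev inclMap {N N' : AddSubmonoid M} (h : N ≤ N') :
    CommRingCat.of (ring R N) ⟶ CommRingCat.of (ring R N') :=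
  CommRingCat.ofHom (inclHom R h)

theorem inclHom_tmul {N N' : AddSubmonoid M} (h : N ≤ N') (n : N) (z : Zu.{u}) (r : R) :
    inclHom R h ((MonoidAlgebra.single (Multiplicative.ofAdd n) z) ⊗ₜ[Zu.{u}] r) =
      (MonoidAlgebra.single (Multiplicative.ofAdd (AddSubmonoid.inclusion h n)) z) ⊗ₜ[Zu.{u}] r := by
  simp [inclHom]

theorem inclHom_comp {N N' N'' : AddSubmonoid M} (h : N ≤ N') (h' : N' ≤ N'') :
    inclHom R (h.trans h') = (inclHom R h').comp (inclHom R h) := by
  refine RingHom.ext fun x => ?_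
  induction x using TensorProduct.induction_on with
  | zero => simp
  | tmul a r =>
    induction a using MonoidAlgebra.induction_linear with
    | zero => simp
    | add p q hp hq => rw [TensorProduct.add_tmul, map_add, map_add, hp, hq]
    | single m z =>
      rw [← ofAdd_toAdd m, RingHom.comp_apply, inclHom_tmul, inclHom_tmul, inclHom_tmul]
      rfl
  | add p q hp hq => rw [map_add, map_add, hp, hq]

theorem inclHom_refl (N : AddSubmonoid M) : inclHom R (le_refl N) = RingHom.id _ := by
  refine RingHom.ext fun x => ?_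
  induction x using TensorProduct.induction_on with
  | zero => simp
  | tmul a r =>
    induction a using MonoidAlgebra.induction_linear with
    | zero => simp
    | add p q hp hq => rw [TensorProduct.add_tmul, map_add, map_add, hp, hq]
    | single m z =>
      rw [← ofAdd_toAdd m, inclHom_tmul]
      rfl
  | add p q hp hq => rw [map_add, map_add, hp, hq]

theorem inclMap_comp {N N' N'' : AddSubmonoid M} (h : N ≤ N') (h' : N' ≤ N'') :
    inclMap R (h.trans h') = inclMap R h ≫ inclMap R h' := by
  rw [inclMap, inclHom_comp R h h']; rfl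

theorem inclMap_refl (N : AddSubmonoid M) : inclMap R (le_refl N) = 𝟙 _ := by
  rw [inclMap, inclHom_refl]; rfl

variable {J : Type u} [Preorder J] [IsDirectedOrder J] [Nonempty J] (N : J → AddSubmonoid M) (hN : Monotone N)

/-- The diagram of chart rings. -/
noncomputable def diag : J ⥤ CommRingCat.{u} where
  obj i := CommRingCat.of (ring R (N i))
  map {i j} h := inclMap R (hN (leOfHom h))
  map_id i := inclMap_refl R (N i)
  map_comp f g := inclMap_comp R _ _

/-- The cocone to the chart ring of the union. -/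
noncomputable def cocone : Cocone (diag R N hN) where
  pt := CommRingCat.of (ring R (⨆ i, N i : AddSubmonoid M))
  «ι» :=
    { app := fun i => inclMap R (le_iSup N i)
      naturality := fun i j h => by
        show inclMap R _ ≫ inclMap R _ = inclMap R _ ≫ 𝟙 _
        rw [← inclMap_comp]
        exact (Category.comp_id _).symm }

/-- It is a colimit. -/
noncomputable def isColimitCocone : IsColimit (cocone R N hN) := by
  haveI : ReflectsColimitsOfShape J (forget CommRingCat.{u}) := reflectsColimitsOfShape_of_reflectsIsomorphisms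
  refine isColimitOfReflects (forget CommRingCat.{u}) ?_
  refine Types.FilteredColimit.isColimitOf _ _ (fun x => ?_) fun i j x y h => ?_
  · change ring R (⨆ i, N i : AddSubmonoid M) at x
    show ∃ (i : J) (y : ring R (N i)), x = (inclMap R (le_iSup N i)).hom y
    induction x using TensorProduct.induction_on with
    | zero => exact ⟨Classical.arbitrary J, 0, (map_zero _).symm⟩
    | tmul a r =>
      induction a using MonoidAlgebra.induction_linear with
      | zero => exact ⟨Classical.arbitrary J, 0, by rw [TensorProduct.zero_tmul, map_zero]⟩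
      | add p q hp hq =>
        obtain ⟨i, y, hy⟩ := hp
        obtain ⟨j, z, hz⟩ := hq
        obtain ⟨k, hik, hjk⟩ := exists_ge_ge i j
        refine ⟨k, (inclMap R (hN hik)).hom y + (inclMap R (hN hjk)).hom z, ?_⟩
        rw [TensorProduct.add_tmul, hy, hz, map_add, ← RingHom.comp_apply, ← RingHom.comp_apply,
          ← CommRingCat.hom_comp, ← CommRingCat.hom_comp, ← inclMap_comp, ← inclMap_comp]
      | single m z =>
        obtain ⟨i, hi⟩ := (AddSubmonoid.mem_iSup_of_directed hN.directed_le).1 (Multiplicative.toAdd m).2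
        exact ⟨i, MonoidAlgebra.single (Multiplicative.ofAdd (⟨_, hi⟩ : N i)) z ⊗ₜ[Zu.{u}] r,
          (inclHom_tmul R (le_iSup N i) (⟨_, hi⟩ : N i) z r).symm⟩
    | add p q hp hq =>
      obtain ⟨i, y, hy⟩ := hp
      obtain ⟨j, z, hz⟩ := hq
      obtain ⟨k, hik, hjk⟩ := exists_ge_ge i j
      refine ⟨k, (inclMap R (hN hik)).hom y + (inclMap R (hN hjk)).hom z, ?_⟩
      rw [hy, hz, map_add, ← RingHom.comp_apply, ← RingHom.comp_apply,
        ← CommRingCat.hom_comp, ← CommRingCat.hom_comp, ← inclMap_comp, ← inclMap_comp]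
  · obtain ⟨k, hik, hjk⟩ := exists_ge_ge i j
    refine ⟨k, homOfLE hik, homOfLE hjk, ?_⟩
    refine injective_tensor Zu.{u} (AddSubmonoid.inclusion (le_iSup N k)) (AddSubmonoid.inclusion_injective (le_iSup N k)) R ?_
    show (inclMap R (le_iSup N k)).hom ((inclMap R (hN hik)).hom x) =
      (inclMap R (le_iSup N k)).hom ((inclMap R (hN hjk)).hom y)
    rw [← RingHom.comp_apply, ← RingHom.comp_apply, ← CommRingCat.hom_comp, ← CommRingCat.hom_comp,
      ← inclMap_comp, ← inclMap_comp]
    exact h

include hN in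
open Magnet in
/-- A point of the attractor of a directed union comes from a stage. -/
theorem exists_attrMap_eq {S : Scheme.{u}} {X : Over S} [IsSeparated X.hom] [LocallyOfFinitePresentation X.hom]
    (a : MonAct (AMonS S M) X) (T : Over S) [IsAffine T.left] (φ : (attr a (⨆ i, N i)).obj (op T)) :
    ∃ (i : J) (ψ : (attr a (N i)).obj (op T)), (attrMap a (le_iSup N i)).app (op T) ψ = φ := by
  let ε : Spec Γ(T.left, ⊤) ≅ T.left := T.left.isoSpec.symm
  let aR : CommRingCat.of (ULift.{u} ℤ) ⟶ Γ(T.left, ⊤) :=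
    Spec.preimage (IsTerminal.from specULiftZIsTerminal.{u} (Spec Γ(T.left, ⊤)))
  letI : Algebra Zu.{u} Γ(T.left, ⊤) := aR.hom.toAlgebra
  let c (P : Type) [AddCommMonoid P] := chart S T Γ(T.left, ⊤) ε.hom P
  have hci : ∀ (P : Type) [AddCommMonoid P], IsIso (c P) := fun P _ =>
    (chart_isPullback S T Γ(T.left, ⊤) ε.hom P).isIso_fst_of_isIso
  let D := (diag Γ(T.left, ⊤) N hN).op ⋙ Scheme.Spec
  let cn : Cone D := Scheme.Spec.mapCone (cocone Γ(T.left, ⊤) N hN).op
  have hcn : IsLimit cn := isLimitOfPreserves Scheme.Spec (isColimitCocone Γ(T.left, ⊤) N hN).op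
  haveI : ∀ {i j} (f : i ⟶ j), IsAffineHom (D.map f) := fun f => by dsimp [D]; infer_instance
  haveI : ∀ i, CompactSpace (D.obj i) := fun i => by dsimp [D]; infer_instance
  haveI : ∀ i, QuasiSeparatedSpace (D.obj i) := fun i => by dsimp [D]; infer_instance
  let t : D ⟶ (Functor.const Jᵒᵖ).obj S :=
    { app := fun i => inR Γ(T.left, ⊤) (N i.unop) ≫ ε.hom ≫ T.hom
      naturality := fun i j f => by
        show Spec.map (inclMap _ _) ≫ Spec.map _ ≫ _ = (Spec.map _ ≫ _) ≫ 𝟙 _
        rw [Category.comp_id, ← Spec.map_comp_assoc]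
        congr 2
        refine CommRingCat.hom_ext (RingHom.ext fun r => ?_)
        simp [inclHom] }
  obtain ⟨i, g, hg, hg'⟩ := Scheme.exists_π_app_comp_eq_of_locallyOfFinitePresentation D t X.hom cn hcn
    (c (⨆ i, N i : AddSubmonoid M) ≫ φ.1.left) (by
      ext i
      show Spec.map (inclMap _ _) ≫ Spec.map _ ≫ ε.hom ≫ T.hom = (c (⨆ i, N i : AddSubmonoid M) ≫ φ.1.left) ≫ X.hom
      rw [Category.assoc, Over.w φ.1, ← Spec.map_comp_assoc]
      refine Eq.trans ?_ (congrArg (fun t => t ≫ T.hom) (chart_snd S T Γ(T.left, ⊤) ε.hom (⨆ i, N i : AddSubmonoid M))).symm |>.trans ?_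
      · rw [Category.assoc]
        congr 2
        refine CommRingCat.hom_ext (RingHom.ext fun r => ?_)
        simp [inclHom]
      · rw [Category.assoc, Over.w])
  haveI := hci (N i.unop)
  have hb : (inv (c (N i.unop)) ≫ g) ≫ X.hom = (AMonS S (N i.unop) ⊗ T).hom := by
    have e : c (N i.unop) ≫ (AMonS S (N i.unop) ⊗ T).hom = inR _ _ ≫ ε.hom ≫ T.hom := by
      rw [← Over.w (snd (AMonS S (N i.unop)) T), reassoc_of% (chart_snd S T Γ(T.left, ⊤) ε.hom (N i.unop))]
    rw [Category.assoc, IsIso.inv_comp_eq, e]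
    exact hg'
  let ψ : AMonS S (N i.unop) ⊗ T ⟶ X := Over.homMk (inv (c (N i.unop)) ≫ g) hb
  have hψ : (AMonS.map S (AddSubmonoid.inclusion (le_iSup N i.unop)) ▷ T) ≫ ψ = φ.1 := by
    apply Over.OverMorphism.ext
    haveI := hci (⨆ i, N i : AddSubmonoid M)
    rw [← cancel_epi (c (⨆ i, N i : AddSubmonoid M))]
    rw [Over.comp_left, ← hg]
    show c _ ≫ _ ≫ inv (c (N i.unop)) ≫ g = _
    rw [reassoc_of% (chart_comp S T Γ(T.left, ⊤) ε.hom (AddSubmonoid.inclusion (le_iSup N i.unop)))]
    rw [IsIso.hom_inv_id_assoc]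
    rfl
  refine ⟨i.unop, ⟨ψ, ?_⟩, Subtype.ext hψ⟩
  rw [MonAct.mem_eqvHom_iff]
  intro T' gm b s
  have huniv : lift (lift (snd (AMonS S (N i.unop)) (AMonS S M ⊗ T) ≫ fst _ _) (fst _ _) ≫ (subAct S M (N i.unop)).act)
      (snd (AMonS S (N i.unop)) (AMonS S M ⊗ T) ≫ snd _ _) ≫ ψ =
      lift (snd (AMonS S (N i.unop)) (AMonS S M ⊗ T) ≫ fst _ _) (lift (fst _ _) (snd (AMonS S (N i.unop)) (AMonS S M ⊗ T) ≫ snd _ _) ≫ ψ) ≫ a.act := by
    refine eq_of_map S (AddSubmonoid.inclusion (le_iSup N i.unop)) (AddSubmonoid.inclusion_injective _) (AMonS S M ⊗ T) _ _ ?_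
    have hm : MonAct.IsEquivariant (subAct S M (⨆ i, N i : AddSubmonoid M)) (subAct S M (N i.unop))
        (AMonS.map S (AddSubmonoid.inclusion (le_iSup N i.unop))) :=
      MonAct.isEquivariant_restrict_regular _ _ _ (by rw [← AMonS.map_comp]; rfl)
    rw [MonAct.isEquivariant_iff] at hm
    have h := (MonAct.mem_eqvHom_iff φ.1).1 φ.2 _ (snd (AMonS S (⨆ i, N i : AddSubmonoid M)) (AMonS S M ⊗ T) ≫ fst _ _) (fst _ _)
      (snd _ _ ≫ snd _ _)
    rw [← hψ, lift_whiskerRight_assoc, lift_whiskerRight_assoc, Category.assoc, hm] at h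
    simpa [comp_lift_assoc, comp_lift] using h
  have := congrArg (fun t => lift b (lift gm s) ≫ t) huniv
  simpa [comp_lift_assoc, comp_lift] using this

end Groth.Agent.MagnetAttr
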