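import Groth.Agent.MagnetAttr.Sep
import Groth.Prelude.Def_Magnet3
import Mathlib.AlgebraicGeometry.Morphisms.Basic

/-!
# `A(M) → A(N)` is schematically dominant after any base change
-/

set_option autoImplicit false
set_option backward.isDefEq.respectTransparency false
set_option linter.style.haveILetI false

universe u

open CategoryTheory CategoryTheory.Limits MonoidalCategory CartesianMonoidalCategory MonObj AlgebraicGeometry Opposite

namespace Groth.Agent.MagnetAttr

/-- A closed immersion through which an injective ring map factors is an isomorphism. -/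
theorem isIso_affine {A B : CommRingCat.{u}} (ψ : A ⟶ B) (hψ : Function.Injective ψ.hom) {E : Scheme.{u}}
    (e : E ⟶ Spec A) [IsClosedImmersion e] (l : Spec B ⟶ E) (hl : l ≫ e = Spec.map ψ) : IsIso e := by
  haveI : IsAffine E := isAffine_of_isAffineHom e
  have hinj : Function.Injective e.appTop.hom := by
    intro x y hxy
    have hc := congrArg (fun t => l.appTop.hom t) hxy
    have e2 : (l ≫ e).appTop = (Spec.map ψ).appTop := by rw [hl]
    rw [Scheme.Hom.comp_appTop] at e2
    have e3 := fun z => congrArg (fun t : Γ(Spec A, ⊤) ⟶ Γ(Spec B, ⊤) => t.hom z) e2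
    simp only [CommRingCat.hom_comp, RingHom.comp_apply] at e3
    have hc' : (Spec.map ψ).appTop.hom x = (Spec.map ψ).appTop.hom y := (e3 x).symm.trans (hc.trans (e3 y))
    have hnat := Scheme.ΓSpecIso_naturality ψ
    have h5 : ∀ z, (Scheme.ΓSpecIso B).hom.hom ((Spec.map ψ).appTop.hom z) =
        ψ.hom ((Scheme.ΓSpecIso A).hom.hom z) := fun z =>
      congrArg (fun t : Γ(Spec A, ⊤) ⟶ B => t.hom z) hnat
    have h6 := congrArg (Scheme.ΓSpecIso B).hom.hom hc'
    rw [h5, h5] at h6
    exact (Scheme.ΓSpecIso A).commRingCatIsoToRingEquiv.injective (hψ h6)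
  exact IsClosedImmersion.isIso_of_injective_of_isAffine hinj

variable {N M : Type} [AddCommMonoid N] [AddCommMonoid M]

/-- A morphism out of `A(N) ⊗ T` lifts along a closed immersion if it does so on `A(M) ⊗ T`. -/
theorem exists_lift_of_map (S : Scheme.{u}) (f : N →+ M) (hf : Function.Injective f) {Y Z : Over S}
    (i : Z ⟶ Y) [IsClosedImmersion i.left] (T : Over S) (φ : Magnet.AMonS S N ⊗ T ⟶ Y)
    (ψ : Magnet.AMonS S M ⊗ T ⟶ Z) (h : (Magnet.AMonS.map S f ▷ T) ≫ φ = ψ ≫ i) :
    ∃ l : Magnet.AMonS S N ⊗ T ⟶ Z, l ≫ i = φ := by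
  let e := pullback.fst φ.left i.left
  haveI : IsClosedImmersion e := MorphismProperty.pullback_fst _ _ inferInstance
  have hm : (Magnet.AMonS.map S f ▷ T).left ≫ φ.left = ψ.left ≫ i.left := congrArg CommaMorphism.left h
  let lM : (Magnet.AMonS S M ⊗ T).left ⟶ pullback φ.left i.left :=
    pullback.lift (Magnet.AMonS.map S f ▷ T).left ψ.left hm
  suffices IsIso e by
    refine ⟨Over.homMk (inv e ≫ pullback.snd _ _) ?_, Over.OverMorphism.ext ?_⟩
    · rw [Category.assoc, IsIso.inv_comp_eq, ← Over.w i, ← Category.assoc (pullback.snd _ _),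
        ← pullback.condition, Category.assoc, Over.w φ]
    · show (inv e ≫ pullback.snd _ _) ≫ i.left = φ.left
      rw [Category.assoc, IsIso.inv_comp_eq, pullback.condition]
  show (MorphismProperty.isomorphisms Scheme.{u}) e
  refine IsZariskiLocalAtTarget.of_openCover
    (𝒰 := T.left.affineCover.pullback₁ (snd (Magnet.AMonS S N) T).left) fun j => ?_
  let X' := T.left.affineCover.X j
  let ε : Spec Γ(X', ⊤) ≅ X' := X'.isoSpec.symm
  let aR : CommRingCat.of (ULift.{u} ℤ) ⟶ Γ(X', ⊤) :=
    Spec.preimage (IsTerminal.from specULiftZIsTerminal.{u} (Spec Γ(X', ⊤)))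
  letI : Algebra Zu.{u} Γ(X', ⊤) := aR.hom.toAlgebra
  let o : Spec Γ(X', ⊤) ⟶ T.left := ε.hom ≫ T.left.affineCover.f j
  let c := chart S T Γ(X', ⊤) o N
  have hiso : IsIso (pullback.snd e c) := by
    haveI : IsClosedImmersion (pullback.snd e c) := MorphismProperty.pullback_snd _ _ inferInstance
    refine isIso_affine
      (CommRingCat.ofHom (Algebra.TensorProduct.map (ringMap Zu.{u} f) (AlgHom.id Zu.{u} Γ(X', ⊤))).toRingHom)
      (injective_tensor Zu.{u} f hf Γ(X', ⊤)) (pullback.snd e c)
      (pullback.lift (chart S T Γ(X', ⊤) o M ≫ lM) (Spec.map _) ?_) (pullback.lift_snd _ _ _)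
    rw [Category.assoc, pullback.lift_fst, chart_comp]
  have hc := chart_isPullback S T Γ(X', ⊤) o N
  let κ : pullback (snd (Magnet.AMonS S N) T).left (T.left.affineCover.f j) ⟶ Spec (CommRingCat.of (ring Γ(X', ⊤) N)) :=
    hc.lift (pullback.fst _ _) (pullback.snd _ _ ≫ ε.inv) (by
      rw [pullback.condition, Category.assoc]; erw [ε.inv_hom_id_assoc])
  have hκ : κ ≫ c = pullback.fst _ _ := hc.lift_fst _ _ _
  show IsIso (pullback.snd e _)
  have key : IsPullback (pullback.lift (pullback.fst e _) (pullback.snd e _ ≫ κ)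
      (by rw [Category.assoc, hκ]; exact pullback.condition) :
        pullback e (pullback.fst (snd (Magnet.AMonS S N) T).left (T.left.affineCover.f j)) ⟶ pullback e c)
      (pullback.snd e _) (pullback.snd e c) κ := by
    refine IsPullback.of_right ?_ (pullback.lift_snd _ _ _) (IsPullback.of_hasPullback e c).flip.flip
    rw [pullback.lift_fst, hκ]
    exact IsPullback.of_hasPullback _ _
  haveI := hiso
  exact key.isIso_snd_of_isIso

open Magnet in
/-- The value of an equivariant family on `A(M) ⊗ T`. -/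
theorem map_subtype_comp {S : Scheme.{u}} {M : Type} [AddCommMonoid M] {X : Over S}
    (a : MonAct (AMonS S M) X) (N : AddSubmonoid M) (T : Over S) (φ : (attr a N).obj (op T)) :
    (AMonS.map S N.subtype ▷ T) ≫ φ.1 =
      lift (fst (AMonS S M) T) (snd (AMonS S M) T ≫ (attrToX a N).app (op T) φ) ≫ a.act := by
  have h2 := (MonAct.mem_eqvHom_iff φ.1).1 φ.2 _ (fst (AMonS S M) T)
    (toUnit _ ≫ η[AMonS S N]) (snd (AMonS S M) T)
  have e1 : lift (toUnit _ ≫ η[AMonS S N]) (snd (AMonS S M) T) ≫ φ.1 =
      snd (AMonS S M) T ≫ (attrToX a N).app (op T) φ := by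
    rw [attrToX, MonAct.eqvHom.evalAt_app, comp_lift_assoc, comp_toUnit_assoc, Category.comp_id]
  rw [← e1]
  refine Eq.trans ?_ h2
  refine congrArg (fun t => t ≫ φ.1) ?_
  apply CartesianMonoidalCategory.hom_ext
  · simp only [subAct, MonAct.restrict, MonAct.regular, lift_fst]
    rw [CartesianMonoidalCategory.whiskerRight_fst]
    erw [MonAct.mk'_act]
    erw [CartesianMonoidalCategory.lift_whiskerRight_assoc]
    rw [MonObj.lift_comp_one_right]
  · simp

open Magnet in
/-- Attractors of invariant closed subschemes. -/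
theorem isPullback_postcomp_attrToX {S : Scheme.{u}} {M : Type} [AddCommMonoid M] (N : AddSubmonoid M)
    {Y Z : Over S} [IsSeparated Y.hom] (aY : MonAct (AMonS S M) Y) (aZ : MonAct (AMonS S M) Z) (f : Z ⟶ Y)
    [IsClosedImmersion f.left] (hf : MonAct.IsEquivariant aZ aY f) :
    IsPullback (MonAct.eqvHom.postcomp (subAct S M N) f hf) (attrToX aZ N) (attrToX aY N) (yoneda.map f) := by
  haveI : Mono f := Over.mono_of_mono_left f
  have hw : MonAct.eqvHom.postcomp (subAct S M N) f hf ≫ attrToX aY N = attrToX aZ N ≫ yoneda.map f := by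
    ext T φ
    exact (Category.assoc _ _ _).symm
  refine IsPullback.of_isLimit' ⟨hw⟩ (Limits.evaluationJointlyReflectsLimits _ fun T =>
    (Limits.isLimitMapConePullbackConeEquiv ((evaluation _ _).obj T) hw).symm ?_)
  refine IsPullback.isLimit (h := ?_)
  rw [Limits.Types.isPullback_iff]
  refine ⟨congrArg (fun t => NatTrans.app t T) hw, ?_, ?_⟩
  · rintro φ₁ φ₂ ⟨h1, -⟩
    exact Subtype.ext ((cancel_mono f).1 (congrArg Subtype.val h1))
  · intro φ z h
    have h' : (attrToX aY N).app (op (unop T)) φ = z ≫ f := h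
    obtain ⟨l, hl⟩ := exists_lift_of_map S N.subtype Subtype.val_injective f (unop T) φ.1
      (lift (fst (AMonS S M) (unop T)) (snd (AMonS S M) (unop T) ≫ z) ≫ aZ.act) (by
        rw [map_subtype_comp aY N (unop T) φ, h', Category.assoc, ← Category.assoc (snd _ _) z f]
        exact ((MonAct.isEquivariant_iff _ _ _).1 hf _ _ _).symm)
    have hle : MonAct.IsEquivariant ((subAct S M N).prod (MonAct.trivial (AMonS S M) (unop T))) aZ l := by
      have hφ := φ.2
      rw [MonAct.isEquivariant_iff] at hφ hf ⊢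
      intro T' g x
      rw [← cancel_mono f, Category.assoc, Category.assoc, Category.assoc, hl, hφ, hf, Category.assoc, hl]
    refine ⟨⟨l, hle⟩, Subtype.ext hl, ?_⟩
    show lift (toUnit (unop T) ≫ η[AMonS S N]) (𝟙 (unop T)) ≫ l = z
    rw [← cancel_mono f, Category.assoc, hl]
    exact h'

open Magnet in
/-- Change of monoid along an injective map, for separated targets. -/
theorem isIso_attrComap {S : Scheme.{u}} {M Z : Type} [AddCommMonoid M] [AddCommMonoid Z] (f : M →+ Z)
    (hf : Function.Injective f) (Y : AddSubmonoid Z) (hY : Y ≤ AddMonoidHom.mrange f) {X : Over S}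
    [IsSeparated X.hom] (a : MonAct (AMonS S M) X) : IsIso (attrComap a f Y) := by
  let g : Y.comap f →+ Y := (f.comp (Y.comap f).subtype).codRestrict Y (fun x => x.2)
  have hg : Function.Bijective g := by
    refine ⟨fun p q h => Subtype.ext (hf (congrArg Subtype.val h)), fun y => ?_⟩
    obtain ⟨m, hm⟩ := hY y.2
    exact ⟨⟨m, show f m ∈ Y from hm ▸ y.2⟩, Subtype.ext hm⟩
  let ge := AddEquiv.ofBijective g hg
  have hid : ∀ (P : Type) [AddCommMonoid P], AMonS.map S (AddMonoidHom.id P) = 𝟙 (AMonS S P) := by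
    intro P _
    have e : AMon.map Zu.{u} (AddMonoidHom.id P) = 𝟙 _ := by
      apply Over.OverMorphism.ext
      rw [AMon.map_left, Over.id_left]
      refine Eq.trans ?_ (Spec.map_id _)
      congr 1
      ext x <;> simp
    rw [AMonS.map, e]
    exact CategoryTheory.Functor.map_id _ _
  have h12 : AMonS.map S g ≫ AMonS.map S ge.symm.toAddMonoidHom = 𝟙 _ := by
    rw [← AMonS.map_comp, show g.comp ge.symm.toAddMonoidHom = AddMonoidHom.id _ from
      AddMonoidHom.ext fun x => ge.apply_symm_apply x, hid]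
  have h21 : AMonS.map S ge.symm.toAddMonoidHom ≫ AMonS.map S g = 𝟙 _ := by
    rw [← AMonS.map_comp, show ge.symm.toAddMonoidHom.comp g = AddMonoidHom.id _ from
      AddMonoidHom.ext fun x => ge.symm_apply_apply x, hid]
  rw [NatTrans.isIso_iff_isIso_app]
  intro T
  rw [isIso_iff_bijective]
  constructor
  · intro φ₁ φ₂ h
    have h1 := congrArg (fun x => (AMonS.map S ge.symm.toAddMonoidHom ▷ unop T) ≫ Subtype.val x) h
    simp only [attrComap_app_coe] at h1
    rw [← MonoidalCategory.comp_whiskerRight_assoc, ← MonoidalCategory.comp_whiskerRight_assoc, h21,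
      MonoidalCategory.id_whiskerRight, Category.id_comp, Category.id_comp] at h1
    exact Subtype.ext h1
  · intro ψ
    let φ := (AMonS.map S ge.symm.toAddMonoidHom ▷ unop T) ≫ ψ.1
    have hφ : MonAct.IsEquivariant ((subAct S M (Y.comap f)).prod (MonAct.trivial _ (unop T))) a φ := by
      rw [MonAct.isEquivariant_iff]
      have huniv : (((subAct S M (Y.comap f)).prod (MonAct.trivial _ (unop T))).act ≫ φ) =
          (AMonS S M ◁ φ) ≫ a.act := by
        refine eq_of_map S f hf _ _ _ ?_
        refine Magnet.hom_ext_lift₂ fun T' gz x => ?_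
        rw [lift_whiskerRight_assoc, lift_whiskerRight_assoc, lift_whiskerLeft_assoc]
        obtain ⟨b, t, rfl⟩ : ∃ b t, x = lift b t := ⟨x ≫ fst _ _, x ≫ snd _ _, (lift_comp_fst_snd x).symm⟩
        have h := (MonAct.mem_eqvHom_iff ψ.1).1 ψ.2 T' gz (b ≫ AMonS.map S ge.symm.toAddMonoidHom) t
        rw [MonAct.lift_restrict_act] at h
        have hc : AMonS.map S f ≫ AMonS.map S (Y.comap f).subtype = AMonS.map S Y.subtype ≫ AMonS.map S g := by
          rw [← AMonS.map_comp, ← AMonS.map_comp]; rfl
        simp only [φ, MonAct.lift_prod_act_assoc, MonAct.trivial_act, lift_snd, lift_whiskerRight_assoc, subAct,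
          MonAct.lift_restrict_act, MonAct.lift_regular_act, Category.assoc] at h ⊢
        refine Eq.trans ?_ h
        rw [hc, MonObj.mul_comp, Category.assoc, Category.assoc, h12, Category.comp_id]
      intro T' gm x
      rw [huniv, lift_whiskerLeft_assoc]
    refine ⟨⟨φ, hφ⟩, Subtype.ext ?_⟩
    rw [attrComap_app_coe]
    show (AMonS.map S g ▷ unop T) ≫ (AMonS.map S ge.symm.toAddMonoidHom ▷ unop T) ≫ ψ.1 = ψ.1
    rw [← MonoidalCategory.comp_whiskerRight_assoc, h12, MonoidalCategory.id_whiskerRight, Category.id_comp]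

end Groth.Agent.MagnetAttr
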