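import Groth.Agent.MagnetAttr.Sep
import Groth.Prelude.Def_Magnet3
import Mathlib.AlgebraicGeometry.Morphisms.FormallyUnramified
import Mathlib.LinearAlgebra.TensorProduct.RightExactness

/-!
# Attractors of formally unramified maps have unique infinitesimal lifts
-/

set_option autoImplicit false
set_option backward.isDefEq.respectTransparency false
set_option linter.style.haveILetI false

universe u

open CategoryTheory CategoryTheory.Limits MonoidalCategory CartesianMonoidalCategory MonObj AlgebraicGeometry Opposite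

namespace Groth.Agent.MagnetAttr

/-- `Spec` of a surjection with nilpotent kernel has nilpotent ideal sheaf. -/
theorem isNilpotent_ker_SpecMap {A B : CommRingCat.{u}} (φ : A ⟶ B) (h : RingHom.ker φ.hom ^ 2 = ⊥) :
    IsNilpotent (Spec.map φ).ker := by
  refine ⟨2, Scheme.IdealSheafData.ext_of_isAffine ?_⟩
  rw [Scheme.IdealSheafData.ideal_pow, Scheme.IdealSheafData.zero_eq_bot, Scheme.IdealSheafData.ideal_bot,
    Pi.pow_apply, Pi.bot_apply, Scheme.ker_of_isAffine, Scheme.IdealSheafData.ofIdealTop_ideal]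
  let eA := (Scheme.ΓSpecIso A).commRingCatIsoToRingEquiv
  have hk : RingHom.ker (Spec.map φ).appTop.hom = (RingHom.ker φ.hom).comap eA := by
    ext x
    have h1 := congrArg (fun t : Γ(Spec A, ⊤) ⟶ B => t.hom x) (Scheme.ΓSpecIso_naturality φ)
    rw [Ideal.mem_comap, RingHom.mem_ker, RingHom.mem_ker,
      ← map_eq_zero_iff _ (Scheme.ΓSpecIso B).commRingCatIsoToRingEquiv.injective]
    exact (congrArg (· = 0) h1).to_iff
  have hz : ((RingHom.ker φ.hom).comap eA) ^ 2 = ⊥ := by
    rw [show (RingHom.ker φ.hom).comap eA = (RingHom.ker φ.hom).map eA.symm from (Ideal.map_symm eA).symm,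
      ← Ideal.map_pow, h, Ideal.map_bot]
  rw [hk]
  refine ((Ideal.map_pow _ _ _).symm.trans ?_)
  erw [hz]
  exact Ideal.map_bot

/-- Base change of a square-zero surjection is square-zero. -/
theorem ker_map_id_sq {R A B B' : Type*} [CommRing R] [CommRing A] [Algebra R A] [CommRing B] [Algebra R B]
    [CommRing B'] [Algebra R B'] (π : B →ₐ[R] B') (hπ : Function.Surjective π) (h : RingHom.ker π ^ 2 = ⊥) :
    RingHom.ker (Algebra.TensorProduct.map (AlgHom.id R A) π) ^ 2 = ⊥ := by
  rw [Algebra.TensorProduct.lTensor_ker _ hπ, ← Ideal.map_pow, h, Ideal.map_bot]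

attribute [local instance 2000] Algebra.toModule

/-- Uniqueness of infinitesimal lifts of `A(N)`-families along formally unramified maps. -/
theorem eq_of_formallyUnramified (S : Scheme.{u}) (N : Type) [AddCommMonoid N] {X Y : Over S}
    (f : X ⟶ Y) [FormallyUnramified f.left] (A : Type u) [CommRing A] (I : Ideal A) (hI : I ^ 2 = ⊥)
    (str : Spec (CommRingCat.of A) ⟶ S) (φ₁ φ₂ : Magnet.AMonS S N ⊗ Over.mk str ⟶ X)
    (htop : (Magnet.AMonS S N ◁ (Over.homMk (Spec.map (CommRingCat.ofHom (Ideal.Quotient.mk I))) rfl :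
        Over.mk (Spec.map (CommRingCat.ofHom (Ideal.Quotient.mk I)) ≫ str) ⟶ Over.mk str)) ≫ φ₁ =
      (Magnet.AMonS S N ◁ (Over.homMk (Spec.map (CommRingCat.ofHom (Ideal.Quotient.mk I))) rfl :
        Over.mk (Spec.map (CommRingCat.ofHom (Ideal.Quotient.mk I)) ≫ str) ⟶ Over.mk str)) ≫ φ₂)
    (hbot : φ₁ ≫ f = φ₂ ≫ f) : φ₁ = φ₂ := by
  set t : Over.mk (Spec.map (CommRingCat.ofHom (Ideal.Quotient.mk I)) ≫ str) ⟶ Over.mk str :=
    Over.homMk (Spec.map (CommRingCat.ofHom (Ideal.Quotient.mk I))) rfl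
  let aR : CommRingCat.of (ULift.{u} ℤ) ⟶ CommRingCat.of A :=
    Spec.preimage (IsTerminal.from specULiftZIsTerminal.{u} (Spec (CommRingCat.of A)))
  letI : Algebra Zu.{u} A := aR.hom.toAlgebra
  let π : A →ₐ[Zu.{u}] A ⧸ I := Ideal.Quotient.mkₐ Zu.{u} I
  let F : TensorProduct Zu.{u} (MonoidAlgebra Zu.{u} (Multiplicative N)) A →ₐ[Zu.{u}]
      TensorProduct Zu.{u} (MonoidAlgebra Zu.{u} (Multiplicative N)) (A ⧸ I) :=
    Algebra.TensorProduct.map (AlgHom.id _ _) π
  have hFs : Function.Surjective F := by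
    intro y
    induction y using TensorProduct.induction_on with
    | zero => exact ⟨0, map_zero _⟩
    | tmul a c =>
      obtain ⟨c', rfl⟩ := Ideal.Quotient.mk_surjective c
      exact ⟨a ⊗ₜ c', rfl⟩
    | add a c ha hc =>
      obtain ⟨a', rfl⟩ := ha
      obtain ⟨c', rfl⟩ := hc
      exact ⟨a' + c', map_add _ _ _⟩
  have hFk : RingHom.ker F.toRingHom ^ 2 = ⊥ := by
    exact ker_map_id_sq π Ideal.Quotient.mk_surjective ((congrArg (· ^ 2) (Ideal.mk_ker (I := I))).trans hI)
  let Fh : CommRingCat.of (ring A N) ⟶ CommRingCat.of (ring (A ⧸ I) N) := CommRingCat.ofHom F.toRingHom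
  haveI : IsClosedImmersion (Spec.map Fh) :=
    IsClosedImmersion.spec_of_surjective Fh hFs
  let o₀ : Spec (CommRingCat.of (A ⧸ I)) ⟶ (Over.mk str).left := Spec.map (CommRingCat.ofHom (Ideal.Quotient.mk I))
  have hR : Spec.map Fh ≫ inR A N =
      inR (A ⧸ I) N ≫ Spec.map (CommRingCat.ofHom π.toRingHom) := by
    rw [← Spec.map_comp, ← Spec.map_comp, ← CommRingCat.ofHom_comp, ← CommRingCat.ofHom_comp]
    congr 2
  have hL : Spec.map Fh ≫ inL A N = inL (A ⧸ I) N := by
    rw [← Spec.map_comp, ← CommRingCat.ofHom_comp]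
    congr 2
  have h1 : Spec.map Fh ≫ chart S (Over.mk str) A (𝟙 _) N =
      chart S (Over.mk str) (A ⧸ I) o₀ N := by
    apply pullback.hom_ext
    · apply pullback.hom_ext
      · simp only [Category.assoc]
        rw [chart_fst_fst, chart_fst_fst, hL]
      · simp only [Category.assoc]
        rw [chart_fst_snd, chart_fst_snd, Category.id_comp, reassoc_of% hR]
        rfl
    · simp only [Category.assoc]
      erw [chart_snd, chart_snd, Category.comp_id, hR]
      rfl
  have h2 : chart S (Over.mk (Spec.map (CommRingCat.ofHom (Ideal.Quotient.mk I)) ≫ str)) (A ⧸ I) (𝟙 _) N ≫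
      (Magnet.AMonS S N ◁ t).left = chart S (Over.mk str) (A ⧸ I) o₀ N := by
    apply pullback.hom_ext
    · simp only [Category.assoc, Over.whiskerLeft_left_fst]
      apply pullback.hom_ext
      · simp only [Category.assoc]
        rw [chart_fst_fst, chart_fst_fst]
      · simp only [Category.assoc]
        rw [chart_fst_snd, chart_fst_snd]
        exact congrArg (inR (A ⧸ I) N ≫ ·) (Category.id_comp _)
    · simp only [Category.assoc, Over.whiskerLeft_left_snd]
      refine (reassoc_of% (chart_snd S (Over.mk (Spec.map (CommRingCat.ofHom (Ideal.Quotient.mk I)) ≫ str)) (A ⧸ I) (𝟙 _) N)) t.left |>.trans ?_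
      refine Eq.trans ?_ (chart_snd S (Over.mk str) (A ⧸ I) o₀ N).symm
      rfl
  haveI : IsIso (chart S (Over.mk str) A (𝟙 _) N) := (chart_isPullback S (Over.mk str) A (𝟙 _) N).isIso_fst_of_isIso
  apply Over.OverMorphism.ext
  rw [← cancel_epi (chart S (Over.mk str) A (𝟙 _) N)]
  refine FormallyUnramified.hom_ext _ (isNilpotent_ker_SpecMap Fh hFk) f.left ?_ ?_
  · rw [reassoc_of% h1, reassoc_of% h1, ← h2]
    simp only [Category.assoc, ← Over.comp_left]
    rw [htop]
  · simp only [Category.assoc, ← Over.comp_left]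
    rw [hbot]

end Groth.Agent.MagnetAttr
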