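import Groth.Agent.MagnetAttr.Sep
import Groth.Agent.MagnetAttr.OpenAlg
import Groth.Agent.MagnetPts

/-!
# Invariant open subsets of `A(N) × T` and attractors of open immersions
-/

set_option autoImplicit false
set_option backward.isDefEq.respectTransparency false
set_option linter.style.haveILetI false
set_option maxHeartbeats 1000000
set_option synthInstance.maxHeartbeats 100000

universe u

open CategoryTheory CategoryTheory.Limits MonoidalCategory CartesianMonoidalCategory MonObj AlgebraicGeometry Opposite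
open scoped TensorProduct

noncomputable section

namespace Groth.Agent.MagnetAttr

open MagnetPts (co co_ext co_comp co_map co_mul exists_co zHom_ext ρ)

attribute [local instance 2000] Algebra.toModule

variable {S : Scheme.{u}}

/-- A field valued base. -/
abbrev fpt {L : Type u} [Field L] (t : Spec (CommRingCat.of L) ⟶ S) : Over S := Over.mk t

theorem exists_repr {P : Type} [AddCommMonoid P] (K : Type u) [CommRing K] [Algebra Zu.{u} K] (h : ring K P) :
    ∃ c : Multiplicative P →₀ K, h = c.sum fun n a => MonoidAlgebra.single n 1 ⊗ₜ[Zu.{u}] a := by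
  classical
  have hadd : ∀ c d : Multiplicative P →₀ K,
      (c + d).sum (fun n a => (MonoidAlgebra.single n 1 : MonoidAlgebra Zu.{u} _) ⊗ₜ[Zu.{u}] a) =
        c.sum (fun n a => (MonoidAlgebra.single n 1 : MonoidAlgebra Zu.{u} _) ⊗ₜ[Zu.{u}] a) +
          d.sum (fun n a => (MonoidAlgebra.single n 1 : MonoidAlgebra Zu.{u} _) ⊗ₜ[Zu.{u}] a) := fun c d =>
    Finsupp.sum_add_index (fun _ _ => TensorProduct.tmul_zero _ _) fun _ _ _ _ => TensorProduct.tmul_add _ _ _
  induction h using TensorProduct.induction_on with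
  | zero => exact ⟨0, by simp⟩
  | tmul a b =>
    induction a using MonoidAlgebra.induction_linear with
    | zero => exact ⟨0, by simp⟩
    | add x y hx hy =>
      obtain ⟨c, hc⟩ := hx
      obtain ⟨d, hd⟩ := hy
      exact ⟨c + d, by rw [hadd, TensorProduct.add_tmul, hc, hd]⟩
    | single n z =>
      refine ⟨Finsupp.single n (z • b), ?_⟩
      rw [Finsupp.sum_single_index]
      · rw [← TensorProduct.smul_tmul, MonoidAlgebra.smul_single, smul_eq_mul, _root_.mul_one]
      · exact TensorProduct.tmul_zero _ _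
  | add x y hx hy =>
    obtain ⟨c, hc⟩ := hx
    obtain ⟨d, hd⟩ := hy
    exact ⟨c + d, by rw [hadd, hc, hd]⟩

/-- The ring map of a point of `A(P) × Spec K` with values in a field. -/
def evalPt {P : Type} [AddCommMonoid P] {K L : Type u} [CommRing K] [CommRing L] [Algebra Zu.{u} K] (j : K →+* L)
    (φ : Multiplicative P →* L) : ring K P →+* L :=
  letI : Algebra Zu.{u} L := (j.comp (algebraMap Zu.{u} K)).toAlgebra
  (Algebra.TensorProduct.productMap (MonoidAlgebra.lift Zu.{u} L (Multiplicative P) φ)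
    { j with commutes' := fun _ => rfl }).toRingHom

theorem evalPt_tmul {P : Type} [AddCommMonoid P] {K L : Type u} [CommRing K] [CommRing L] [Algebra Zu.{u} K] (j : K →+* L)
    (φ : Multiplicative P →* L) (n : Multiplicative P) (a : K) :
    evalPt j φ (MonoidAlgebra.single n 1 ⊗ₜ[Zu.{u}] a) = φ n * j a := by
  letI : Algebra Zu.{u} L := (j.comp (algebraMap Zu.{u} K)).toAlgebra
  show MonoidAlgebra.lift Zu.{u} L (Multiplicative P) φ (MonoidAlgebra.single n 1) * j a = _
  rw [← MonoidAlgebra.of_apply, MonoidAlgebra.lift_of]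

theorem evalPt_right {P : Type} [AddCommMonoid P] {K L : Type u} [CommRing K] [CommRing L] [Algebra Zu.{u} K] (j : K →+* L)
    (φ : Multiplicative P →* L) :
    (evalPt j φ).comp (Algebra.TensorProduct.includeRight
      (R := Zu.{u}) (A := MonoidAlgebra Zu.{u} (Multiplicative P)) (B := K)).toRingHom = j := by
  ext a
  letI : Algebra Zu.{u} L := (j.comp (algebraMap Zu.{u} K)).toAlgebra
  show MonoidAlgebra.lift Zu.{u} L (Multiplicative P) φ 1 * j a = _
  rw [map_one, _root_.one_mul]

/-- A character as a point over a field. -/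
theorem exists_fieldPt {P : Type} [AddCommMonoid P] {L : Type u} [Field L] (t : Spec (CommRingCat.of L) ⟶ S)
    (φ : Multiplicative P →* L) :
    ∃ x : fpt t ⟶ Magnet.AMonS S P, ∀ n, co x n = (Scheme.ΓSpecIso (CommRingCat.of L)).inv (φ n) := by
  exact exists_co (T := fpt t) (((Scheme.ΓSpecIso (CommRingCat.of L)).inv.hom.toMonoidHom).comp φ)

theorem lift_eq_chart {P : Type} [AddCommMonoid P] {K L : Type u} [Field K] [Field L] [Algebra Zu.{u} K]
    (t : Spec (CommRingCat.of K) ⟶ S) (j : K →+* L) (φ : Multiplicative P →* L)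
    (x : fpt (Spec.map (CommRingCat.ofHom j) ≫ t) ⟶ Magnet.AMonS S P)
    (hx : ∀ n, co x n = (Scheme.ΓSpecIso (CommRingCat.of L)).inv (φ n))
    (zL : fpt (Spec.map (CommRingCat.ofHom j) ≫ t) ⟶ fpt t) (hz : zL.left = Spec.map (CommRingCat.ofHom j)) :
    (lift x zL).left = Spec.map (CommRingCat.ofHom (evalPt j φ)) ≫ chart S (fpt t) K (𝟙 _) P := by
  have hR : Spec.map (CommRingCat.ofHom (evalPt j φ)) ≫ inR K P = Spec.map (CommRingCat.ofHom j) := by
    rw [← Spec.map_comp, ← CommRingCat.ofHom_comp, evalPt_right]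
  refine pullback.hom_ext ?_ ?_
  · refine pullback.hom_ext ?_ ?_
    · simp only [Category.assoc]
      rw [chart_fst_fst]
      have h1 : (lift x zL).left ≫ pullback.fst _ _ = x.left := by
        rw [← congrArg (fun t => Over.Hom.left t) (lift_fst x zL)]
        rfl
      rw [reassoc_of% h1]
      refine MagnetPts.eq_of_ρ fun n => ?_
      refine (hx n).trans ?_
      rw [ρ, Scheme.Hom.comp_appTop, ← Scheme.ΓSpecIso_inv_naturality_assoc, ← Scheme.ΓSpecIso_inv_naturality]
      show _ = (Scheme.ΓSpecIso (CommRingCat.of L)).inv (evalPt j φ _)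
      congr 1
      show φ n = evalPt j φ (MonoidAlgebra.single n 1 ⊗ₜ[Zu.{u}] (1 : K))
      rw [evalPt_tmul, map_one, _root_.mul_one]
    · simp only [Category.assoc]
      rw [chart_fst_snd, Category.id_comp, reassoc_of% hR]
      have h1 : (lift x zL).left ≫ pullback.fst _ _ = x.left := by
        rw [← congrArg (fun t => Over.Hom.left t) (lift_fst x zL)]
        rfl
      rw [reassoc_of% h1]
      exact Over.w x
  · simp only [Category.assoc]
    erw [chart_snd]
    rw [Category.comp_id, hR]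
    exact (congrArg (fun t => Over.Hom.left t) (lift_snd x zL)).trans hz

theorem range_subset_of_mem {L : Type u} [Field L] {X : Scheme.{u}} (g : Spec (CommRingCat.of L) ⟶ X) (V : X.Opens)
    (h : g (IsLocalRing.closedPoint L) ∈ V) : Set.range g ⊆ (V : Set X) := by
  rintro _ ⟨q, rfl⟩
  rwa [Subsingleton.elim (α := PrimeSpectrum L) q (IsLocalRing.closedPoint L)]

variable {M : Type} [AddCommGroup M] [AddGroup.FG M] (N : AddSubmonoid M)

/-- An invariant open subset containing the distinguished point of a fibre contains the fibre. -/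
theorem mem_of_section_mem (T : Over S) (e : T ⟶ Magnet.AMonS S N)
    (he : ∀ n, co e n = unitInd Γ(T.left, ⊤) N n) (V : (Magnet.AMonS S N ⊗ T).left.Opens)
    (hV : ∀ (W : Over S) (g : W ⟶ Magnet.AMonS S M) (x : W ⟶ Magnet.AMonS S N) (z : W ⟶ T),
      Set.range (lift ((g ≫ Magnet.AMonS.map S N.subtype) * x) z).left ⊆ (V : Set _) →
        Set.range (lift x z).left ⊆ (V : Set _))
    (p : (Magnet.AMonS S N ⊗ T).left) (hp : (lift e (𝟙 T)).left ((snd (Magnet.AMonS S N) T).left p) ∈ V) :
    p ∈ V := by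
  classical
  let K := (Magnet.AMonS S N ⊗ T).left.residueField p
  let P0l := (Magnet.AMonS S N ⊗ T).left.fromSpecResidueField p
  let t : Spec (CommRingCat.of K) ⟶ S := P0l ≫ (Magnet.AMonS S N ⊗ T).hom
  let P0 : fpt t ⟶ Magnet.AMonS S N ⊗ T := Over.homMk P0l rfl
  have hP0 : P0.left (IsLocalRing.closedPoint K) = p := Scheme.fromSpecResidueField_apply p _
  let z : fpt t ⟶ T := P0 ≫ snd _ _
  letI : Algebra Zu.{u} K := ((Int.castRingHom K).comp ULift.ringEquiv.toRingHom).toAlgebra
  haveI : IsIso (chart S (fpt t) K (𝟙 _) N) := (chart_isPullback S (fpt t) K (𝟙 _) N).isIso_fst_of_isIso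
  let O := chart S (fpt t) K (𝟙 _) N ⁻¹ᵁ ((Magnet.AMonS S N ◁ z).left ⁻¹ᵁ V)
  have key : ∀ (L : Type u) (_ : Field L) (j : K →+* L) (φ : Multiplicative N →* L)
      (x : fpt (Spec.map (CommRingCat.ofHom j) ≫ t) ⟶ Magnet.AMonS S N)
      (_ : ∀ n, co x n = (Scheme.ΓSpecIso (CommRingCat.of L)).inv (φ n)),
      ((lift x ((Over.homMk (Spec.map (CommRingCat.ofHom j)) rfl : fpt _ ⟶ fpt t) ≫ z)).left
          (IsLocalRing.closedPoint L) ∈ V ↔
        Spec.map (CommRingCat.ofHom (evalPt j φ)) (IsLocalRing.closedPoint L) ∈ O) := by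
    intro L _ j φ x hx
    rw [← lift_whiskerLeft, Over.comp_left, lift_eq_chart t j φ x hx _ rfl, Category.assoc, Scheme.Hom.comp_apply,
      Scheme.Hom.comp_apply]
    exact Iff.rfl
  -- the distinguished point
  obtain ⟨x0, hx0⟩ := exists_fieldPt (Spec.map (CommRingCat.ofHom (RingHom.id K)) ≫ t) (unitInd K N)
  have hq : Spec.map (CommRingCat.ofHom (evalPt (RingHom.id K) (unitInd K N))) (IsLocalRing.closedPoint K) ∈ O := by
    refine (key K inferInstance (RingHom.id K) (unitInd K N) x0 hx0).1 ?_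
    let zI : fpt (Spec.map (CommRingCat.ofHom (RingHom.id K)) ≫ t) ⟶ fpt t :=
      Over.homMk (Spec.map (CommRingCat.ofHom (RingHom.id K))) rfl
    have hxe : x0 = (zI ≫ z) ≫ e := co_ext fun n => by
      rw [hx0, co_comp, he, unitInd_comp, unitInd_comp]
      rfl
    rw [hxe, show lift ((zI ≫ z) ≫ e) (zI ≫ z) = (zI ≫ z) ≫ lift e (𝟙 T) by rw [comp_lift, Category.comp_id]]
    rw [Over.comp_left, Scheme.Hom.comp_apply]
    have : (zI ≫ z).left (IsLocalRing.closedPoint K) = (snd (Magnet.AMonS S N) T).left p := by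
      rw [Over.comp_left, Scheme.Hom.comp_apply, Over.comp_left, Scheme.Hom.comp_apply,
        show zI.left (IsLocalRing.closedPoint K) = IsLocalRing.closedPoint K from
          Subsingleton.elim (α := PrimeSpectrum K) _ _, hP0]
    rw [this]
    exact hp
  obtain ⟨_, ⟨h, rfl⟩, hh, hO⟩ :=
    PrimeSpectrum.isTopologicalBasis_basic_opens.exists_subset_of_mem_open hq O.2
  obtain ⟨c, hc⟩ := exists_repr K h
  have hev : ∀ (L : Type u) (_ : Field L) (j : K →+* L) (φ : Multiplicative N →* L),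
      evalPt j φ h = ∑ n ∈ c.support, φ n * j (c n) := fun L _ j φ => by
    rw [hc, Finsupp.sum, map_sum]
    exact Finset.sum_congr rfl fun n _ => evalPt_tmul j φ n _
  have h0 : ∑ n ∈ c.support, c n * unitInd K N n ≠ 0 := fun e0 => hh (by
    show evalPt (RingHom.id K) (unitInd K N) h ∈ IsLocalRing.maximalIdeal K
    rw [hev, show ∑ n ∈ c.support, unitInd K N n * RingHom.id K (c n) = 0 by
      rw [← e0]; exact Finset.sum_congr rfl fun n _ => mul_comm _ _]
    exact zero_mem _)
  let φp : Multiplicative N →* K :=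
    ((Scheme.ΓSpecIso (CommRingCat.of K)).hom.hom.toMonoidHom).comp (co (P0 ≫ fst _ _))
  obtain ⟨L, _, j, g, hg⟩ := exists_translate c.support c φp h0
  let t' := Spec.map (CommRingCat.ofHom j) ≫ t
  let zL : fpt t' ⟶ fpt t := Over.homMk (Spec.map (CommRingCat.ofHom j)) rfl
  obtain ⟨gp, hgp⟩ := exists_fieldPt t' g
  let xL : fpt t' ⟶ Magnet.AMonS S N := zL ≫ P0 ≫ fst _ _
  let ψ : Multiplicative N →* L := (g.comp (AddMonoidHom.toMultiplicative N.subtype)) * (j.toMonoidHom.comp φp)
  have hx : ∀ n, co ((gp ≫ Magnet.AMonS.map S N.subtype) * xL) n = (Scheme.ΓSpecIso (CommRingCat.of L)).inv (ψ n) := by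
    intro n
    rw [co_mul, co_map, hgp, co_comp]
    show _ * (Spec.map (CommRingCat.ofHom j)).appTop (co (P0 ≫ fst _ _) n) = _
    rw [show co (P0 ≫ fst _ _) n = (Scheme.ΓSpecIso (CommRingCat.of K)).inv (φp n) from
      (ConcreteCategory.congr_hom (Scheme.ΓSpecIso (CommRingCat.of K)).hom_inv_id _).symm]
    rw [← CommRingCat.comp_apply (Scheme.ΓSpecIso (CommRingCat.of K)).inv, ← Scheme.ΓSpecIso_inv_naturality,
      CommRingCat.comp_apply, ← map_mul]
    rfl
  have hmem : (lift ((gp ≫ Magnet.AMonS.map S N.subtype) * xL) (zL ≫ z)).left (IsLocalRing.closedPoint L) ∈ V := by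
    refine (key L inferInstance j ψ _ hx).2 ?_
    refine hO fun hmem => hg ?_
    have h1 : evalPt j ψ h = 0 := by
      have h2 : evalPt j ψ h ∈ IsLocalRing.maximalIdeal L := hmem
      rwa [IsLocalRing.maximalIdeal_eq_bot, Ideal.mem_bot] at h2
    rw [← h1, hev]
    exact Finset.sum_congr rfl fun n _ => mul_comm _ _
  have hfin := hV _ gp xL (zL ≫ z) (range_subset_of_mem _ V hmem) ⟨IsLocalRing.closedPoint L, rfl⟩
  have hlift : lift xL (zL ≫ z) = zL ≫ P0 := by
    refine CartesianMonoidalCategory.hom_ext _ _ ?_ ?_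
    · rw [lift_fst, Category.assoc]
    · rw [lift_snd, Category.assoc]
  rw [hlift, Over.comp_left, Scheme.Hom.comp_apply,
    show zL.left (IsLocalRing.closedPoint L) = IsLocalRing.closedPoint K from
      Subsingleton.elim (α := PrimeSpectrum K) _ _, hP0] at hfin
  exact hfin

/-- Attractors turn open immersions into open immersions. -/
theorem isOpenImmersion_attr {X Y : Over S} (aX : Magnet.MonAct (Magnet.AMonS S M) X)
    (aY : Magnet.MonAct (Magnet.AMonS S M) Y) (f : X ⟶ Y) (hf : Magnet.MonAct.IsEquivariant aX aY f)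
    [IsOpenImmersion f.left] {ZX ZY : Over S} (eX : (Magnet.attr aX N).RepresentableBy ZX)
    (eY : (Magnet.attr aY N).RepresentableBy ZY) (j : ZX ⟶ ZY)
    (hj : ∀ (T : Over S) (z : T ⟶ ZX),
      eY.homEquiv (z ≫ j) = (Magnet.MonAct.eqvHom.postcomp (Magnet.subAct S M N) f hf).app (op T) (eX.homEquiv z)) :
    IsOpenImmersion j.left := by
  haveI : Mono f := (Over.forget S).mono_of_mono_map (inferInstanceAs (Mono f.left))
  let u0 := eY.homEquiv (𝟙 ZY)
  have hnat : ∀ {T : Over S} (z : T ⟶ ZY), (eY.homEquiv z).1 = (Magnet.AMonS S N ◁ z) ≫ u0.1 := fun {T} z => by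
    have := eY.homEquiv_comp z (𝟙 ZY)
    rw [Category.comp_id] at this
    exact congrArg Subtype.val this
  let U := f.left.opensRange
  let V : (Magnet.AMonS S N ⊗ ZY).left.Opens := u0.1.left ⁻¹ᵁ U
  have hV : ∀ (W : Over S) (g : W ⟶ Magnet.AMonS S M) (x : W ⟶ Magnet.AMonS S N) (z : W ⟶ ZY),
      Set.range (lift ((g ≫ Magnet.AMonS.map S N.subtype) * x) z).left ⊆ (V : Set _) →
        Set.range (lift x z).left ⊆ (V : Set _) := by
    intro W g x z h
    have heq := (Magnet.MonAct.mem_eqvHom_iff u0.1).1 u0.2 W g x z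
    simp only [Magnet.subAct, Magnet.MonAct.lift_restrict_act, Magnet.MonAct.lift_regular_act] at heq
    obtain ⟨w, hw⟩ : ∃ w : W ⟶ X, w ≫ f = lift g (lift x z ≫ u0.1) ≫ aY.act := by
      rw [← heq]
      have hr : Set.range (lift ((g ≫ Magnet.AMonS.map S N.subtype) * x) z ≫ u0.1).left ⊆ Set.range f.left := by
        rintro _ ⟨q, rfl⟩
        exact h ⟨q, rfl⟩
      exact ⟨Over.homMk (IsOpenImmersion.lift f.left _ hr) (by
          rw [← Over.w f, IsOpenImmersion.lift_fac_assoc]; exact Over.w _),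
        Over.OverMorphism.ext (IsOpenImmersion.lift_fac _ _ hr)⟩
    obtain ⟨g', hg'⟩ := exists_co (S := S) (T := W) (P := M)
      ((co g).comp (invMonoidHom : Multiplicative M →* Multiplicative M))
    have hinv : g' * g = 1 := co_ext fun m => by
      rw [co_mul, hg', Hom.one_def, MagnetPts.co_one]
      show co g m⁻¹ * co g m = 1
      rw [← map_mul, inv_mul_cancel, map_one]
    have : lift x z ≫ u0.1 = (lift g' w ≫ aX.act) ≫ f := by
      rw [Magnet.MonAct.isEquivariant_iff] at hf
      rw [Category.assoc, hf, hw, ← Magnet.MonAct.lift_mul_act, hinv, Magnet.MonAct.lift_one_act]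
    rintro _ ⟨q, rfl⟩
    show u0.1.left ((lift x z).left q) ∈ U
    rw [← Scheme.Hom.comp_apply, ← Over.comp_left, this]
    exact ⟨(lift g' w ≫ aX.act).left q, rfl⟩
  obtain ⟨e, he⟩ := exists_co (S := S) (T := ZY) (P := N) (unitInd Γ(ZY.left, ⊤) N)
  let W := (lift e (𝟙 ZY)).left ⁻¹ᵁ V
  let Wo : Over S := Over.mk (W.ι ≫ ZY.hom)
  let i : Wo ⟶ ZY := Over.homMk W.ι rfl
  have hrange : Set.range ((Magnet.AMonS S N ◁ i) ≫ u0.1).left ⊆ Set.range f.left := by
    rintro _ ⟨q, rfl⟩
    have hq : (Magnet.AMonS S N ◁ i).left q ∈ V := by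
      refine mem_of_section_mem N ZY e he V hV _ ?_
      have e1 : (snd (Magnet.AMonS S N) ZY).left ((Magnet.AMonS S N ◁ i).left q) =
          i.left ((snd (Magnet.AMonS S N) Wo).left q) :=
        congrArg (fun t : Magnet.AMonS S N ⊗ Wo ⟶ ZY => t.left q) (whiskerLeft_snd (Magnet.AMonS S N) i)
      rw [e1]
      exact ((snd (Magnet.AMonS S N) Wo).left q).2
    exact hq
  let φ : Magnet.AMonS S N ⊗ Wo ⟶ X := Over.homMk (IsOpenImmersion.lift f.left _ hrange) (by
    rw [← Over.w f, IsOpenImmersion.lift_fac_assoc]; exact Over.w _)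
  have hφ : φ ≫ f = (Magnet.AMonS S N ◁ i) ≫ u0.1 := Over.OverMorphism.ext (IsOpenImmersion.lift_fac _ _ hrange)
  have hφe : Magnet.MonAct.IsEquivariant ((Magnet.subAct S M N).prod (Magnet.MonAct.trivial _ Wo)) aX φ := by
    rw [Magnet.MonAct.mem_eqvHom_iff]
    intro T' g b t
    rw [← cancel_mono f, Category.assoc, hφ, ← hnat]
    rw [(Magnet.MonAct.mem_eqvHom_iff _).1 (eY.homEquiv i).2, Category.assoc,
      (Magnet.MonAct.isEquivariant_iff ..).1 hf, Category.assoc, hφ, hnat]
  let k : Wo ⟶ ZX := eX.homEquiv.symm ⟨φ, hφe⟩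
  have hk : k ≫ j = i := eY.homEquiv.injective (by
    rw [hj, Equiv.apply_symm_apply]
    exact Subtype.ext (hφ.trans (hnat i).symm))
  have hjW : Set.range j.left ⊆ Set.range W.ι := by
    rw [Scheme.Opens.range_ι]
    rintro _ ⟨q, rfl⟩
    have h1 : (Magnet.AMonS S N ◁ j) ≫ u0.1 = (eX.homEquiv (𝟙 ZX)).1 ≫ f := by
      rw [← hnat, ← Category.id_comp j, hj]
      rfl
    have h2 : (j ≫ lift e (𝟙 ZY)) ≫ u0.1 = (lift (j ≫ e) (𝟙 ZX) ≫ (eX.homEquiv (𝟙 ZX)).1) ≫ f := by
      rw [Category.assoc (lift _ _), ← h1, lift_whiskerLeft_assoc, Category.id_comp, comp_lift, Category.comp_id]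
    show u0.1.left ((lift e (𝟙 ZY)).left (j.left q)) ∈ U
    rw [← Scheme.Hom.comp_apply, ← Scheme.Hom.comp_apply, ← Category.assoc, ← Over.comp_left, ← Over.comp_left, h2]
    exact ⟨(lift (j ≫ e) (𝟙 ZX) ≫ (eX.homEquiv (𝟙 ZX)).1).left q, rfl⟩
  let j' : ZX ⟶ Wo := Over.homMk (IsOpenImmersion.lift W.ι j.left hjW) (by
    show _ ≫ W.ι ≫ ZY.hom = _
    rw [IsOpenImmersion.lift_fac_assoc]; exact Over.w j)
  have hj' : j' ≫ i = j := Over.OverMorphism.ext (IsOpenImmersion.lift_fac _ _ hjW)
  haveI : Mono j := ⟨fun {T} a b hab => eX.homEquiv.injective (Subtype.ext ((cancel_mono f).1 (by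
    have := congrArg (fun t : T ⟶ ZY => (eY.homEquiv t).1) hab
    simp only [hj] at this
    exact this)))⟩
  haveI : Mono i := (Over.forget S).mono_of_mono_map (inferInstanceAs (Mono W.ι))
  have h1 : j' ≫ k = 𝟙 ZX := (cancel_mono j).1 (by rw [Category.assoc, hk, hj', Category.id_comp])
  have h2 : k ≫ j' = 𝟙 Wo := (cancel_mono i).1 (by rw [Category.assoc, hj', hk, Category.id_comp])
  haveI : IsIso j' := ⟨k, h1, h2⟩
  haveI : IsIso j'.left := inferInstanceAs (IsIso ((Over.forget S).map j'))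
  rw [← hj']
  exact inferInstanceAs (IsOpenImmersion (j'.left ≫ W.ι))

end Groth.Agent.MagnetAttr
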