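import Mathlib
import Groth.Prelude.Def_Magnet
import Groth.Agent.QuotShLib.Fppf

set_option autoImplicit false

universe v u

open CategoryTheory CategoryTheory.Limits MonoidalCategory CartesianMonoidalCategory Opposite MonObj

namespace Groth.Agent.MagnetAttr

variable {C : Type u} [Category.{v} C] [CartesianMonoidalCategory C]

theorem isSheaf_eqvHom [HasPullbacks C] (J : GrothendieckTopology C) [J.Subcanonical] {A B X : C} [MonObj A]
    (ρ : Magnet.MonAct A B) (a : Magnet.MonAct A X) : Presheaf.IsSheaf J (Magnet.MonAct.eqvHom ρ a) := by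
  rw [isSheaf_iff_isSheaf_of_type]
  intro T S hS x hx
  have hX : Presieve.IsSheaf J (yoneda.obj X) := GrothendieckTopology.Subcanonical.isSheaf_of_isRepresentable _
  have hmem := J.pullback_stable (snd B T) hS
  let y : Presieve.FamilyOfElements (yoneda.obj X) (S.pullback (snd B T) : Presieve (B ⊗ T)) :=
    fun U g hg => lift (g ≫ fst B T) (𝟙 U) ≫ (x (g ≫ snd B T) hg).1
  have xeq : ∀ ⦃U : C⦄ (f f' : U ⟶ T) (hf : S.arrows f) (hf' : S.arrows f'), f = f' → (x f hf).1 = (x f' hf').1 := by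
    intro U f f' hf hf' e
    subst e
    rfl
  have hy : y.Compatible := by
    rw [Presieve.compatible_iff_sieveCompatible] at hx ⊢
    intro U V g h hg
    have := congrArg Subtype.val (hx (g ≫ snd B T) h hg)
    simp only [Magnet.MonAct.eqvHom_map_coe, Quiver.Hom.unop_op] at this
    show lift ((h ≫ g) ≫ fst B T) (𝟙 V) ≫ (x ((h ≫ g) ≫ snd B T) _).1 = h ≫ lift (g ≫ fst B T) (𝟙 U) ≫ _
    refine (congrArg (fun t => lift ((h ≫ g) ≫ fst B T) (𝟙 V) ≫ t) (xeq _ (h ≫ g ≫ snd B T) _ (S.downward_closed hg h) (Category.assoc _ _ _))).trans ?_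
    erw [this]
    rw [lift_whiskerLeft_assoc, comp_lift_assoc]
    simp
  have key : ∀ (φ : B ⊗ T ⟶ X), y.IsAmalgamation φ ↔ ∀ ⦃U : C⦄ (f : U ⟶ T) (hf : S.arrows f), (B ◁ f) ≫ φ = (x f hf).1 := by
    intro φ
    constructor
    · intro h U f hf
      have hm : (S.pullback (snd B T)).arrows (B ◁ f) := by
        show S.arrows _
        rw [whiskerLeft_snd]
        exact S.downward_closed hf _
      have h1 : (B ◁ f) ≫ φ = _ := h (B ◁ f) hm
      rw [h1]
      show lift _ _ ≫ _ = _
      have hx' := (Presieve.compatible_iff_sieveCompatible x).1 hx f (snd B U) hf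
      have e := congrArg Subtype.val hx'
      simp only [Magnet.MonAct.eqvHom_map_coe, Quiver.Hom.unop_op] at e
      refine (congrArg (fun t => lift (B ◁ f ≫ fst B T) (𝟙 (B ⊗ U)) ≫ t) (xeq _ (snd B U ≫ f) _ (S.downward_closed hf _) (whiskerLeft_snd _ _))).trans ?_
      rw [whiskerLeft_fst]
      erw [e]
      rw [lift_whiskerLeft_assoc, Category.id_comp, lift_fst_snd, Category.id_comp]
    · intro h U g hg
      show g ≫ φ = _
      show g ≫ φ = lift (g ≫ fst B T) (𝟙 U) ≫ _
      rw [← h (g ≫ snd B T) hg, lift_whiskerLeft_assoc, Category.id_comp]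
      rw [show lift (g ≫ fst B T) (g ≫ snd B T) = g from lift_comp_fst_snd g]
  obtain ⟨φ, hφ, huniq⟩ := hX _ hmem y hy
  have hxφ := (key φ).1 hφ
  have heq : Magnet.MonAct.IsEquivariant (ρ.prod (Magnet.MonAct.trivial A T)) a φ := by
    rw [Magnet.MonAct.mem_eqvHom_iff]
    intro T' g b t
    refine (hX _ (J.pullback_stable t hS)).isSeparatedFor.ext fun U h hh => ?_
    show h ≫ _ = h ≫ _
    have h2 := (Magnet.MonAct.mem_eqvHom_iff _).1 (x (h ≫ t) hh).2 U (h ≫ g) (h ≫ b) (𝟙 U)
    rw [← hxφ _ hh, lift_whiskerLeft_assoc, lift_whiskerLeft_assoc, Category.id_comp] at h2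
    rw [comp_lift_assoc, comp_lift_assoc, comp_lift_assoc, comp_lift_assoc]
    simpa using h2
  refine ⟨⟨φ, heq⟩, fun U f hf => Subtype.ext (hxφ f hf), ?_⟩
  rintro ⟨ψ, hψ⟩ h
  exact Subtype.ext (huniq ψ ((key ψ).2 fun U f hf => congrArg Subtype.val (h f hf)))

end Groth.Agent.MagnetAttr
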